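import Mathlib

/-!
The two positive semidefinite forms of a strongly regular graph with parameters (77,16,0,4).
-/

set_option autoImplicit false
set_option linter.unusedSectionVars false

namespace Cfsg.Agent.Lib.Srg77

open Finset

variable {V : Type*} [Fintype V] [DecidableEq V] {G : SimpleGraph V} [DecidableRel G.Adj]

/-- The adjacency indicator. -/
def adj01 (G : SimpleGraph V) [DecidableRel G.Adj] (z y : V) : ℤ := if G.Adj z y then 1 else 0

theorem adj01_comm (z y : V) : adj01 G z y = adj01 G y z := by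
  simp only [adj01, G.adj_comm z y]

/-- `a • 1 + b • A + g • J` as an operator on integer vectors. -/
def op (G : SimpleGraph V) [DecidableRel G.Adj] (a b g : ℤ) (c : V → ℤ) (z : V) : ℤ :=
  a * c z + b * (∑ y, adj01 G z y * c y) + g * ∑ y, c y

theorem sum_mul_op (a b g : ℤ) (c d : V → ℤ) :
    ∑ z, c z * op G a b g d z = ∑ z, op G a b g c z * d z := by
  simp only [op, mul_add, add_mul, Finset.sum_add_distrib, Finset.mul_sum, Finset.sum_mul]
  congr 1
  · congr 1
    · exact Finset.sum_congr rfl fun z _ => by ring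
    · rw [Finset.sum_comm]
      exact Finset.sum_congr rfl fun z _ => Finset.sum_congr rfl fun y _ => by
        rw [adj01_comm y z]; ring
  · rw [Finset.sum_comm]
    exact Finset.sum_congr rfl fun z _ => Finset.sum_congr rfl fun y _ => by ring

variable (h : G.IsSRGWith 77 16 0 4)
include h

theorem deg (u : V) : (univ.filter fun z => G.Adj u z).card = 16 := by
  rw [← SimpleGraph.neighborFinset_eq_filter, SimpleGraph.card_neighborFinset_eq_degree]
  exact h.regular u

theorem card_common (u v : V) [Fintype (G.commonNeighbors u v)] :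
    Fintype.card (G.commonNeighbors u v) =
      (univ.filter fun w => G.Adj u w ∧ G.Adj v w).card := by
  rw [← Set.toFinset_card]
  congr 1
  ext w
  simp [SimpleGraph.mem_commonNeighbors]

theorem common_adj {u w : V} (hu : G.Adj u w) :
    (univ.filter fun z => G.Adj u z ∧ G.Adj w z).card = 0 := by
  rw [← card_common h]; exact h.of_adj u w hu

theorem common_not_adj {u w : V} (hne : u ≠ w) (hu : ¬ G.Adj u w) :
    (univ.filter fun z => G.Adj u z ∧ G.Adj w z).card = 4 := by
  rw [← card_common h]; exact h.of_not_adj hne hu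

theorem no_triangle {a b c : V} (hab : G.Adj a b) (hac : G.Adj a c) : ¬ G.Adj b c := fun hbc => by
  have := common_adj h hbc
  rw [Finset.card_eq_zero, Finset.filter_eq_empty_iff] at this
  exact this (Finset.mem_univ a) ⟨hab.symm, hac.symm⟩

theorem sum_adj01 (z : V) : ∑ y, adj01 G z y = 16 := by
  simp only [adj01, Finset.sum_boole, deg h z]
  rfl

theorem adj01_sq (z w : V) :
    ∑ y, adj01 G z y * adj01 G y w = 12 * (if z = w then 1 else 0) - 4 * adj01 G z w + 4 := by
  have e : ∀ y, adj01 G z y * adj01 G y w = if G.Adj z y ∧ G.Adj w y then 1 else 0 := fun y => by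
    simp only [adj01, G.adj_comm y w]
    split_ifs <;> simp_all
  rw [Finset.sum_congr rfl fun y _ => e y, Finset.sum_boole]
  by_cases h1 : z = w
  · subst h1
    simp [adj01, deg h z]
  by_cases h2 : G.Adj z w
  · simp [adj01, h1, h2, common_adj h h2]
  · simp [adj01, h1, h2, common_not_adj h h1 h2]

theorem sum_apply_sq (c : V → ℤ) (z : V) :
    ∑ y, adj01 G z y * ∑ w, adj01 G y w * c w =
      12 * c z - 4 * (∑ y, adj01 G z y * c y) + 4 * ∑ y, c y := by
  simp only [Finset.mul_sum]
  rw [Finset.sum_comm]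
  have e : ∀ w, ∑ y, adj01 G z y * (adj01 G y w * c w) =
      12 * ((if z = w then 1 else 0) * c w) - 4 * (adj01 G z w * c w) + 4 * c w := fun w => by
    simp only [← mul_assoc]
    rw [← Finset.sum_mul, adj01_sq h]
    ring
  rw [Finset.sum_congr rfl fun w _ => e w, Finset.sum_add_distrib, Finset.sum_sub_distrib,
    ← Finset.mul_sum, ← Finset.mul_sum]
  simp [Finset.mul_sum]

theorem op_op (a b g : ℤ) (c : V → ℤ) (z : V) :
    op G a b g (op G a b g c) z =
      op G (a * a + 12 * (b * b)) (2 * (a * b) - 4 * (b * b))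
        (2 * (a * g) + 32 * (b * g) + 77 * (g * g) + 4 * (b * b)) c z := by
  have hS : ∑ y, ∑ w, adj01 G y w * c w = 16 * ∑ w, c w := by
    rw [Finset.sum_comm, Finset.mul_sum]
    refine Finset.sum_congr rfl fun w _ => ?_
    rw [← Finset.sum_mul, Finset.sum_congr rfl fun y _ => adj01_comm (G := G) y w, sum_adj01 h]
  have hA : ∑ y, adj01 G z y * op G a b g c y = a * (∑ y, adj01 G z y * c y) +
      b * (∑ y, adj01 G z y * ∑ w, adj01 G y w * c w) + 16 * (g * ∑ w, c w) := by
    simp only [op, mul_add, Finset.sum_add_distrib]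
    rw [← Finset.sum_mul, sum_adj01 h, Finset.mul_sum (a := a), Finset.mul_sum (a := b)]
    congr 1
    congr 1 <;> exact Finset.sum_congr rfl fun y _ => mul_left_comm _ _ _
  have hT : ∑ y, op G a b g c y = (a + 16 * b + 77 * g) * ∑ w, c w := by
    simp only [op, Finset.sum_add_distrib, ← Finset.mul_sum, hS, Finset.sum_const, Finset.card_univ,
      h.card, nsmul_eq_mul]
    push_cast
    ring
  show a * op G a b g c z + b * (∑ y, adj01 G z y * op G a b g c y) +
      g * (∑ y, op G a b g c y) = _
  rw [hA, hT, sum_apply_sq h]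
  unfold op
  ring

/-- The form of rank 21. -/
abbrev opP (G : SimpleGraph V) [DecidableRel G.Adj] := op G 22 (-11) 2

/-- The form of rank 56. -/
abbrev opQ (G : SimpleGraph V) [DecidableRel G.Adj] := op G 42 7 (-2)

theorem sq_op {a b g K : ℤ} (h1 : a * a + 12 * (b * b) = K * a)
    (h2 : 2 * (a * b) - 4 * (b * b) = K * b)
    (h3 : 2 * (a * g) + 32 * (b * g) + 77 * (g * g) + 4 * (b * b) = K * g) (c : V → ℤ) :
    ∑ z, op G a b g c z * op G a b g c z = K * ∑ z, c z * op G a b g c z := by
  rw [← sum_mul_op, Finset.mul_sum]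
  refine Finset.sum_congr rfl fun z _ => ?_
  rw [op_op h, h1, h2, h3]
  unfold op
  ring

theorem kernelP (c : V → ℤ) (hc : ∀ z, c z ≠ 0 → opP G c z = 0) (z : V) : opP G c z = 0 := by
  have e := sq_op h (a := 22) (b := -11) (g := 2) (K := 88) (by norm_num) (by norm_num)
    (by norm_num) c
  have e0 : ∑ z, c z * opP G c z = 0 := Finset.sum_eq_zero fun y _ => by
    by_cases hy : c y = 0
    · simp [hy]
    · simp [hc y hy]
  rw [e0, mul_zero] at e
  exact mul_self_eq_zero.mp ((Finset.sum_eq_zero_iff_of_nonneg fun y _ => mul_self_nonneg _).mp e z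
    (Finset.mem_univ z))

theorem kernelQ (c : V → ℤ) (hc : ∀ z, c z ≠ 0 → opQ G c z = 0) (z : V) : opQ G c z = 0 := by
  have e := sq_op h (a := 42) (b := 7) (g := -2) (K := 56) (by norm_num) (by norm_num)
    (by norm_num) c
  have e0 : ∑ z, c z * opQ G c z = 0 := Finset.sum_eq_zero fun y _ => by
    by_cases hy : c y = 0
    · simp [hy]
    · simp [hc y hy]
  rw [e0, mul_zero] at e
  exact mul_self_eq_zero.mp ((Finset.sum_eq_zero_iff_of_nonneg fun y _ => mul_self_nonneg _).mp e z
    (Finset.mem_univ z))

theorem nonnegP (c : V → ℤ) : 0 ≤ ∑ z, c z * opP G c z := by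
  have e := sq_op h (a := 22) (b := -11) (g := 2) (K := 88) (by norm_num) (by norm_num)
    (by norm_num) c
  have := Finset.sum_nonneg (s := (univ : Finset V)) fun y _ => mul_self_nonneg (opP G c y)
  rw [e] at this
  linarith

end Cfsg.Agent.Lib.Srg77
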