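import Mathlib

/-!
The 5-cocliques of a strongly regular graph with parameters (15,6,1,3).
-/

set_option autoImplicit false
set_option linter.unusedSectionVars false

namespace Cfsg.Agent.Lib.Srg77.GQ15

open Finset

variable {V : Type*} [Fintype V] [DecidableEq V] (R : V → V → Prop) [DecidableRel R]

/-- The parameters. -/
structure Params : Prop where
  symm : ∀ {x y}, R x y → R y x
  irrefl : ∀ x, ¬ R x x
  card : Fintype.card V = 15
  deg : ∀ x, (univ.filter fun y => R x y).card = 6
  lam : ∀ {x y}, R x y → (univ.filter fun z => R x z ∧ R y z).card = 1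
  mu : ∀ {x y}, x ≠ y → ¬ R x y → (univ.filter fun z => R x z ∧ R y z).card = 3

/-- An independent set. -/
def Indep (S : Finset V) : Prop := ∀ x ∈ S, ∀ y ∈ S, ¬ R x y

variable {R}
variable (P : Params R)
include P

/-- Vertices at distance two. -/
def outer (_P : Params R) (c : V) : Finset V := univ.filter fun w => w ≠ c ∧ ¬ R c w

theorem mem_outer {c w : V} : w ∈ outer P c ↔ w ≠ c ∧ ¬ R c w := by simp [outer]

theorem card_outer (c : V) : (outer P c).card = 8 := by
  have e : outer P c = (univ.filter fun z => ¬ R c z).erase c := by ext; simp [outer]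
  rw [e, Finset.card_erase_of_mem (by simp [P.irrefl])]
  have := Finset.card_filter_add_card_filter_not (s := (univ : Finset V)) (fun z => R c z)
  rw [P.deg c, Finset.card_univ, P.card] at this
  omega

/-- The common neighbours of `c` and `w`. -/
def foot (_P : Params R) (c w : V) : Finset V := univ.filter fun a => R c a ∧ R w a

theorem mem_foot {c w a : V} : a ∈ foot P c w ↔ R c a ∧ R w a := by simp [foot]

theorem card_foot {c w : V} (hw : w ∈ outer P c) : (foot P c w).card = 3 := by
  rw [mem_outer] at hw
  exact P.mu (Ne.symm hw.1) hw.2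

theorem exists_third {x y : V} (h : R x y) :
    ∃ z, R x z ∧ R y z ∧ ∀ u, R x u → R y u → u = z := by
  obtain ⟨z, hz⟩ := Finset.card_eq_one.mp (P.lam h)
  have hz' : z ∈ (univ.filter fun z => R x z ∧ R y z) := hz ▸ Finset.mem_singleton_self z
  simp only [Finset.mem_filter, Finset.mem_univ, true_and] at hz'
  refine ⟨z, hz'.1, hz'.2, fun u h1 h2 => ?_⟩
  have : u ∈ (univ.filter fun z => R x z ∧ R y z) := by simp [h1, h2]
  rw [hz] at this
  exact Finset.mem_singleton.mp this

/-- The third vertex of the triangle on an edge. -/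
noncomputable def third (_P : Params R) (x y : V) : V := by
  classical exact if h : ∃ z, R x z ∧ R y z then h.choose else x

theorem third_spec {x y : V} (h : R x y) : R x (third P x y) ∧ R y (third P x y) := by
  obtain ⟨z, h1, h2, -⟩ := exists_third P h
  have e : ∃ z, R x z ∧ R y z := ⟨z, h1, h2⟩
  unfold third
  rw [dif_pos e]
  exact e.choose_spec

theorem third_unique {x y u : V} (h : R x y) (h1 : R x u) (h2 : R y u) : u = third P x y := by
  obtain ⟨z, -, -, hu⟩ := exists_third P h
  rw [hu u h1 h2, hu _ (third_spec P h).1 (third_spec P h).2]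

theorem third_mem {c w a : V} (hw : w ∈ outer P c) (ha : a ∈ foot P c w) :
    third P w a ∈ outer P c ∧ a ∈ foot P c (third P w a) ∧
      ∀ b ∈ foot P c w, b ≠ a →
        b ∉ foot P c (third P w a) ∧ third P c b ∈ foot P c (third P w a) := by
  rw [mem_foot] at ha
  have hw' := (mem_outer P).mp hw
  have hx := third_spec P ha.2
  have hxO : third P w a ∈ outer P c := by
    rw [mem_outer]
    refine ⟨fun e => hw'.2 (P.symm (e ▸ hx.1)), fun hc => ?_⟩
    -- then `c` and `w` are both the third vertex of the edge `a x`
    have e1 : c = third P a (third P w a) := third_unique P hx.2 (P.symm ha.1) (P.symm hc)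
    have e2 : w = third P a (third P w a) := third_unique P hx.2 (P.symm ha.2) (P.symm hx.1)
    exact hw'.1 (e2.trans e1.symm)
  have haT : a ∈ foot P c (third P w a) := (mem_foot P).mpr ⟨ha.1, P.symm hx.2⟩
  refine ⟨hxO, haT, ?_⟩
  -- the two other points of the foot of `w` are replaced by their partners
  set F := foot P c w with hF
  set F' := foot P c (third P w a) with hF'
  have hinter : F ∩ F' = {a} := by
    ext b
    simp only [Finset.mem_inter, Finset.mem_singleton]
    refine ⟨fun hb => ?_, fun hb => hb ▸ ⟨(mem_foot P).mpr ha, haT⟩⟩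
    rw [hF, mem_foot, hF', mem_foot] at hb
    have e1 := third_unique P hx.1 (u := b) hb.1.2 hb.2.2
    have e2 := third_unique P hx.1 (u := a) ha.2 (P.symm hx.2)
    exact e1.trans e2.symm
  have hpt : ∀ b ∈ F, third P c b ∉ F := by
    intro b hb hb'
    rw [hF, mem_foot] at hb hb'
    have hp := third_spec P hb.1
    have e1 : c = third P b (third P c b) := third_unique P hp.2 (P.symm hb.1) (P.symm hp.1)
    have e2 : w = third P b (third P c b) := third_unique P hp.2 (P.symm hb.2) (P.symm hb'.2)
    exact hw'.1 (e2.trans e1.symm)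
  have hinv : ∀ b, R c b → third P c (third P c b) = b := fun b hb =>
    (third_unique P (third_spec P hb).1 hb (P.symm (third_spec P hb).2)).symm
  have himg : F.image (third P c) ⊆ univ.filter fun y => R c y := by
    intro y hy
    obtain ⟨b, hb, rfl⟩ := Finset.mem_image.mp hy
    simpa using (third_spec P ((mem_foot P).mp hb).1).1
  have hunion : F ∪ F.image (third P c) = univ.filter fun y => R c y := by
    apply Finset.eq_of_subset_of_card_le
    · refine Finset.union_subset (fun b hb => ?_) himg
      simpa using ((mem_foot P).mp hb).1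
    · rw [Finset.card_union_of_disjoint, Finset.card_image_of_injOn, P.deg, card_foot P hw]
      · intro b hb b' hb' e
        rw [← hinv b ((mem_foot P).mp hb).1, ← hinv b' ((mem_foot P).mp hb').1]
        exact congrArg _ e
      · rw [Finset.disjoint_left]
        intro y hy hy'
        obtain ⟨b, hb, rfl⟩ := Finset.mem_image.mp hy'
        exact hpt b hb hy
  have hsub : F' ⊆ insert a ((F.erase a).image (third P c)) := by
    intro y hy
    have : y ∈ F ∪ F.image (third P c) := by
      rw [hunion]; simpa using ((mem_foot P).mp hy).1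
    rcases Finset.mem_union.mp this with h1 | h1
    · have : y ∈ F ∩ F' := Finset.mem_inter.mpr ⟨h1, hy⟩
      rw [hinter, Finset.mem_singleton] at this
      simp [this]
    · obtain ⟨b, hb, rfl⟩ := Finset.mem_image.mp h1
      refine Finset.mem_insert_of_mem (Finset.mem_image_of_mem _ (Finset.mem_erase.mpr ⟨?_, hb⟩))
      rintro rfl
      -- then `a`, its partner and the third vertex form a triangle
      have hp := third_spec P ((mem_foot P).mp hb).1
      have hq := (mem_foot P).mp hy
      have e1 : c = third P b (third P c b) := third_unique P hp.2 (P.symm ha.1) (P.symm hp.1)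
      have e2 : third P w b = third P b (third P c b) :=
        third_unique P hp.2 hx.2 (P.symm hq.2)
      exact ((mem_outer P).mp hxO).1 (e2.trans e1.symm)
  have heq : F' = insert a ((F.erase a).image (third P c)) := by
    apply Finset.eq_of_subset_of_card_le hsub
    rw [hF', card_foot P hxO]
    refine (Finset.card_insert_le _ _).trans ?_
    have h3 : F.card = 3 := card_foot P hw
    have := Finset.card_image_le (s := F.erase a) (f := third P c)
    have h2 : (F.erase a).card = 2 := by
      rw [Finset.card_erase_of_mem ((mem_foot P).mpr ha), h3]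
    omega
  intro b hb hba
  refine ⟨fun hb' => ?_, ?_⟩
  · have : b ∈ F ∩ F' := Finset.mem_inter.mpr ⟨hb, hb'⟩
    rw [hinter, Finset.mem_singleton] at this
    exact hba this
  · rw [heq]
    exact Finset.mem_insert_of_mem (Finset.mem_image_of_mem _ (Finset.mem_erase.mpr ⟨hba, hb⟩))

theorem third_ne {c w a b : V} (hw : w ∈ outer P c) (ha : a ∈ foot P c w) (hb : b ∈ foot P c w)
    (hab : a ≠ b) : third P w a ≠ third P w b := fun e => by
  have := ((third_mem P hw ha).2.2 b hb (Ne.symm hab)).1
  rw [e] at this
  exact this (third_mem P hw hb).2.1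

theorem nbr_eq_third {c w u : V} (hw : w ∈ outer P c) (hu : u ∈ outer P c) (hwu : R w u) :
    ∃ a ∈ foot P c w, u = third P w a := by
  set N := (outer P c).filter fun z => R w z with hN
  have hle : N ⊆ (univ.filter fun z => R w z) \ foot P c w := by
    intro z hz
    rw [hN, Finset.mem_filter, mem_outer] at hz
    simp only [Finset.mem_sdiff, Finset.mem_filter, Finset.mem_univ, true_and, mem_foot]
    exact ⟨hz.2, fun h' => hz.1.2 h'.1⟩
  have hcard : N.card ≤ 3 := by
    refine (Finset.card_le_card hle).trans ?_
    rw [Finset.card_sdiff_of_subset (fun z hz => by simpa using ((mem_foot P).mp hz).2), P.deg,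
      card_foot P hw]
  have hsub : (foot P c w).image (third P w) ⊆ N := by
    intro z hz
    obtain ⟨a, ha, rfl⟩ := Finset.mem_image.mp hz
    exact Finset.mem_filter.mpr ⟨(third_mem P hw ha).1, (third_spec P ((mem_foot P).mp ha).2).1⟩
  have heq : (foot P c w).image (third P w) = N := by
    apply Finset.eq_of_subset_of_card_le hsub
    rw [Finset.card_image_of_injOn fun a ha b hb e =>
      by_contra fun hab => third_ne P hw ha hb hab e, card_foot P hw]
    exact hcard
  have : u ∈ N := Finset.mem_filter.mpr ⟨hu, hwu⟩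
  rw [← heq, Finset.mem_image] at this
  obtain ⟨a, ha, e⟩ := this
  exact ⟨a, ha, e.symm⟩

theorem no_outer_triangle {c w u v : V} (hw : w ∈ outer P c) (hu : u ∈ outer P c)
    (hv : v ∈ outer P c) (hwu : R w u) (hwv : R w v) : ¬ R u v := fun huv => by
  obtain ⟨a, ha, rfl⟩ := nbr_eq_third P hw hu hwu
  rw [mem_foot] at ha
  have hx := third_spec P ha.2
  have e1 := third_unique P hwu (u := a) ha.2 (P.symm hx.2)
  have e2 := third_unique P hwu (u := v) hwv huv
  exact ((mem_outer P).mp hv).2 ((e2.trans e1.symm) ▸ ha.1)

theorem exists_twin {c w : V} (hw : w ∈ outer P c) :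
    ∃ w' ∈ outer P c, w' ≠ w ∧ foot P c w' = foot P c w := by
  obtain ⟨a, b, d, hab, had, hbd, hF⟩ := Finset.card_eq_three.mp (card_foot P hw)
  have ha : a ∈ foot P c w := by simp [hF]
  have hb : b ∈ foot P c w := by simp [hF]
  have hd : d ∈ foot P c w := by simp [hF]
  obtain ⟨hxO, haX, hX⟩ := third_mem P hw ha
  set x := third P w a with hx
  have hbX := (hX b hb (Ne.symm hab)).2
  have hdX := (hX d hd (Ne.symm had)).2
  have inv : ∀ b, R c b → third P c (third P c b) = b := fun b hb =>
    (third_unique P (third_spec P hb).1 hb (P.symm (third_spec P hb).2)).symm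
  have hne : ∀ e ∈ foot P c w, e ≠ a → third P c e ≠ a := by
    intro e he hea h'
    have h2 := (hX e he hea).1
    have hax : R x a := ((mem_foot P).mp haX).2
    have hRe := (mem_foot P).mp he
    -- the partner of `e` cannot be in the foot of `w`
    have hp := third_spec P hRe.1
    have e1 : c = third P e (third P c e) := third_unique P hp.2 (P.symm hRe.1) (P.symm hp.1)
    have e2 : w = third P e (third P c e) :=
      third_unique P hp.2 (P.symm hRe.2) (P.symm (h'.symm ▸ ((mem_foot P).mp ha).2))
    exact ((mem_outer P).mp hw).1 (e2.trans e1.symm)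
  obtain ⟨hzO, hbZ, hZ⟩ := third_mem P hxO hbX
  set z := third P x (third P c b) with hz
  have haZ := (hZ a haX (Ne.symm (hne b hb (Ne.symm hab)))).2
  have hdZ : d ∈ foot P c z := by
    have := (hZ _ hdX (fun e => hbd (by
      rw [← inv b ((mem_foot P).mp hb).1, ← inv d ((mem_foot P).mp hd).1, e]))).2
    rwa [inv d ((mem_foot P).mp hd).1] at this
  obtain ⟨hw'O, hdW, hW⟩ := third_mem P hzO hdZ
  refine ⟨third P z d, hw'O, fun e => ?_, ?_⟩
  · -- otherwise `z` would be the neighbour of `w` through `d`, adjacent to `x`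
    have hzw : R w z := P.symm (e ▸ (third_spec P ((mem_foot P).mp hdZ).2).1)
    have hxz : R x z := (third_spec P ((mem_foot P).mp hbX).2).1
    exact no_outer_triangle P hw hxO hzO (third_spec P ((mem_foot P).mp ha).2).1 hzw hxz
  · symm
    apply Finset.eq_of_subset_of_card_le
    · intro y hy
      rw [hF] at hy
      simp only [Finset.mem_insert, Finset.mem_singleton] at hy
      rcases hy with rfl | rfl | rfl
      · have := (hW _ haZ (fun e => hne d hd (Ne.symm had) (by
          rw [← e]; exact inv y ((mem_foot P).mp ha).1))).2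
        rwa [inv y ((mem_foot P).mp ha).1] at this
      · have hdb : third P c y ≠ d := fun e => by
          have hRy := (mem_foot P).mp hb
          have hp := third_spec P hRy.1
          have e1 : c = third P y (third P c y) :=
            third_unique P hp.2 (P.symm hRy.1) (P.symm hp.1)
          have e2 : w = third P y (third P c y) :=
            third_unique P hp.2 (P.symm hRy.2) (P.symm (e.symm ▸ ((mem_foot P).mp hd).2))
          exact ((mem_outer P).mp hw).1 (e2.trans e1.symm)
        have := (hW _ hbZ hdb).2
        rwa [inv y ((mem_foot P).mp hb).1] at this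
      · exact hdW
    · rw [card_foot P hw'O, card_foot P hw]

theorem existsUnique_indep {c w : V} (hw : w ∈ outer P c) :
    ∃ A ⊆ outer P c, A.card = 4 ∧ w ∈ A ∧ Indep R A ∧
      ∀ S ⊆ outer P c, S.card = 4 → w ∈ S → Indep R S → S = A := by
  obtain ⟨w', hw', hne, hF⟩ := exists_twin P hw
  set F := foot P c w with hFdef
  have hF3 : F.card = 3 := card_foot P hw
  have memX : ∀ {u}, u ∈ outer P c → foot P c u = F → ∀ {a}, a ∈ F →
      third P u a ∈ outer P c ∧ R u (third P u a) ∧ foot P c (third P u a) ≠ F := by
    intro u hu hFu a ha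
    have ha' : a ∈ foot P c u := hFu.symm ▸ ha
    refine ⟨(third_mem P hu ha').1, (third_spec P ((mem_foot P).mp ha').2).1, fun e => ?_⟩
    obtain ⟨b, hb, hba⟩ := Finset.exists_mem_ne (s := F) (by omega) a
    exact ((third_mem P hu ha').2.2 b (hFu.symm ▸ hb) hba).1 (e.symm ▸ hb)
  have hinj : ∀ {u}, u ∈ outer P c → foot P c u = F → Set.InjOn (third P u) F := by
    intro u hu hFu a ha b hb e
    by_contra hab
    exact third_ne P hu (hFu.symm ▸ ha) (hFu.symm ▸ hb) hab e
  set X := F.image (third P w) with hX
  set X' := F.image (third P w') with hX'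
  have hXc : X.card = 3 := by rw [hX, Finset.card_image_of_injOn (hinj hw rfl), hF3]
  have hX'c : X'.card = 3 := by rw [hX', Finset.card_image_of_injOn (hinj hw' hF), hF3]
  have hdisj : Disjoint X X' := by
    rw [Finset.disjoint_left]
    intro u hu hu'
    obtain ⟨a, ha, rfl⟩ := Finset.mem_image.mp hu
    obtain ⟨b, hb, e⟩ := Finset.mem_image.mp hu'
    have hb' : b ∈ foot P c w' := hF.symm ▸ hb
    have hmemA := (third_mem P hw ha).2
    have hab : b = a := by
      by_contra hba
      exact (hmemA.2 b hb hba).1 (e ▸ (third_mem P hw' hb').2.1)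
    subst hab
    have hxa : R (third P w b) b := ((mem_foot P).mp hmemA.1).2
    have hwb := third_spec P ((mem_foot P).mp ha).2
    have hwb' := third_spec P ((mem_foot P).mp hb').2
    rw [e] at hwb'
    have e1 := third_unique P hxa (u := w) (P.symm hwb.1) (P.symm ((mem_foot P).mp ha).2)
    have e2 := third_unique P hxa (u := w') (P.symm hwb'.1) (P.symm ((mem_foot P).mp hb').2)
    exact hne (e2.trans e1.symm)
  have hnw : ¬ R w w' := fun hR => by
    obtain ⟨a, ha, e⟩ := nbr_eq_third P hw hw' hR
    exact (memX hw rfl ha).2.2 (e ▸ hF)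
  have hw'X : ∀ u ∈ X ∪ X', u ≠ w ∧ u ≠ w' := by
    intro u hu
    rcases Finset.mem_union.mp hu with h' | h' <;> obtain ⟨a, ha, rfl⟩ := Finset.mem_image.mp h'
    · exact ⟨fun e => (memX hw rfl ha).2.2 (by rw [e]),
        fun e => (memX hw rfl ha).2.2 (by rw [e, hF])⟩
    · exact ⟨fun e => (memX hw' hF ha).2.2 (by rw [e]),
        fun e => (memX hw' hF ha).2.2 (by rw [e, hF])⟩
  have hcover : outer P c = insert w (insert w' (X ∪ X')) := by
    symm
    apply Finset.eq_of_subset_of_card_le
    · intro u hu
      simp only [Finset.mem_insert, Finset.mem_union] at hu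
      rcases hu with rfl | rfl | hu | hu
      · exact hw
      · exact hw'
      all_goals obtain ⟨a, ha, rfl⟩ := Finset.mem_image.mp hu
      · exact (memX hw rfl ha).1
      · exact (memX hw' hF ha).1
    · have hw'n : w' ∉ X ∪ X' := fun h' => (hw'X w' h').2 rfl
      have hwn : w ∉ insert w' (X ∪ X') := fun h' => by
        rcases Finset.mem_insert.mp h' with h' | h'
        · exact hne h'.symm
        · exact (hw'X w h').1 rfl
      rw [card_outer P, Finset.card_insert_of_notMem hwn, Finset.card_insert_of_notMem hw'n,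
        Finset.card_union_of_disjoint hdisj, hXc, hX'c]
  have hwX' : ∀ u ∈ X', u ∈ outer P c ∧ R w' u ∧ ¬ R w u := by
    intro u hu
    obtain ⟨a, ha, rfl⟩ := Finset.mem_image.mp hu
    refine ⟨(memX hw' hF ha).1, (memX hw' hF ha).2.1, fun hR => ?_⟩
    obtain ⟨b, hb, e⟩ := nbr_eq_third P hw (memX hw' hF ha).1 hR
    exact Finset.disjoint_left.mp hdisj (Finset.mem_image.mpr ⟨b, hb, e.symm⟩) hu
  refine ⟨insert w X', ?_, ?_, Finset.mem_insert_self _ _, ?_, ?_⟩
  · rw [Finset.insert_subset_iff]
    exact ⟨hw, fun u hu => (hwX' u hu).1⟩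
  · rw [Finset.card_insert_of_notMem (fun h' => (hw'X w (Finset.mem_union_right _ h')).1 rfl), hX'c]
  · intro u hu v hv hR
    rcases Finset.mem_insert.mp hu with hu | hu <;> rcases Finset.mem_insert.mp hv with hv | hv
    · exact P.irrefl w (by rwa [hu, hv] at hR)
    · exact (hwX' v hv).2.2 (hu ▸ hR)
    · exact (hwX' u hu).2.2 (hv ▸ P.symm hR)
    · exact no_outer_triangle P hw' (hwX' u hu).1 (hwX' v hv).1 (hwX' u hu).2.1 (hwX' v hv).2.1 hR
  · intro S hS hS4 hwS hind
    have hsub : S ⊆ insert w (insert w' X') := by
      intro u hu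
      have := hS hu
      rw [hcover] at this
      simp only [Finset.mem_insert, Finset.mem_union] at this ⊢
      rcases this with h' | h' | h' | h'
      · exact Or.inl h'
      · exact Or.inr (Or.inl h')
      · obtain ⟨a, ha, rfl⟩ := Finset.mem_image.mp h'
        exact absurd (memX hw rfl ha).2.1 (hind _ hwS _ hu)
      · exact Or.inr (Or.inr h')
    have hw'S : w' ∉ S := fun h' => by
      have hle : S ⊆ {w, w'} := by
        intro u hu
        have := hsub hu
        simp only [Finset.mem_insert, Finset.mem_singleton] at this ⊢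
        rcases this with e | e | e
        · exact Or.inl e
        · exact Or.inr e
        · exact absurd (hwX' u e).2.1 (hind _ h' _ hu)
      have := (Finset.card_le_card hle).trans (Finset.card_le_two)
      omega
    apply Finset.eq_of_subset_of_card_le
    · intro u hu
      have := hsub hu
      simp only [Finset.mem_insert] at this ⊢
      rcases this with e | e | e
      · exact Or.inl e
      · exact absurd (e ▸ hu) hw'S
      · exact Or.inr e
    · rw [hS4]
      refine (Finset.card_insert_le _ _).trans ?_
      omega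

theorem indep_five_through (c : V) :
    ∃ s : Finset (Finset V), s.card = 2 ∧
      (∀ S, S ∈ s ↔ S.card = 5 ∧ c ∈ S ∧ Indep R S) ∧
      ∀ S ∈ s, ∀ T ∈ s, S ≠ T → S ∩ T = {c} := by
  classical
  set F := (outer P c).powerset.filter fun A => A.card = 4 ∧ Indep R A with hF
  have hone : ∀ w ∈ outer P c, (F.filter (w ∈ ·)).card = 1 := by
    intro w hw
    obtain ⟨A, hA, hA4, hwA, hind, huniq⟩ := existsUnique_indep P hw
    rw [Finset.card_eq_one]
    refine ⟨A, Finset.ext fun S => ?_⟩
    simp only [hF, Finset.mem_filter, Finset.mem_powerset, Finset.mem_singleton]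
    exact ⟨fun h' => huniq S h'.1.1 h'.1.2.1 h'.2 h'.1.2.2,
      fun h' => h'.symm ▸ ⟨⟨hA, hA4, hind⟩, hwA⟩⟩
  have hcard : F.card = 2 := by
    have e : ∑ A ∈ F, A.card = ∑ w ∈ outer P c, (F.filter (w ∈ ·)).card := by
      simp only [Finset.card_filter]
      rw [Finset.sum_comm]
      refine Finset.sum_congr rfl fun A hA => ?_
      rw [← Finset.card_filter, Finset.filter_mem_eq_inter, Finset.inter_eq_right.mpr]
      exact Finset.mem_powerset.mp (Finset.mem_filter.mp hA).1
    rw [Finset.sum_congr rfl (fun A hA => (Finset.mem_filter.mp hA).2.1),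
      Finset.sum_congr rfl hone, Finset.sum_const, Finset.sum_const, card_outer P] at e
    simp only [smul_eq_mul] at e
    omega
  have hcF : ∀ A ∈ F, c ∉ A := fun A hA h' =>
    ((mem_outer P).mp (Finset.mem_powerset.mp (Finset.mem_filter.mp hA).1 h')).1 rfl
  refine ⟨F.image (insert c), ?_, fun S => ?_, ?_⟩
  · rw [Finset.card_image_of_injOn, hcard]
    intro A hA B hB e
    have := congrArg (fun S : Finset V => S.erase c) e
    simpa [Finset.erase_insert (hcF A hA), Finset.erase_insert (hcF B hB)] using this
  · constructor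
    · intro hS
      obtain ⟨A, hA, rfl⟩ := Finset.mem_image.mp hS
      have hA' := Finset.mem_filter.mp hA
      refine ⟨by rw [Finset.card_insert_of_notMem (hcF A hA), hA'.2.1], Finset.mem_insert_self _ _,
        ?_⟩
      intro u hu v hv hR
      have hsub := Finset.mem_powerset.mp hA'.1
      rcases Finset.mem_insert.mp hu with hu | hu <;> rcases Finset.mem_insert.mp hv with hv | hv
      · exact P.irrefl c (by rwa [hu, hv] at hR)
      · exact ((mem_outer P).mp (hsub hv)).2 (hu ▸ hR)
      · exact ((mem_outer P).mp (hsub hu)).2 (hv ▸ P.symm hR)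
      · exact hA'.2.2 u hu v hv hR
    · rintro ⟨h5, hc, hind⟩
      refine Finset.mem_image.mpr ⟨S.erase c, Finset.mem_filter.mpr ⟨?_, ?_, ?_⟩,
        Finset.insert_erase hc⟩
      · rw [Finset.mem_powerset]
        intro u hu
        rw [Finset.mem_erase] at hu
        exact (mem_outer P).mpr ⟨hu.1, hind c hc u hu.2⟩
      · rw [Finset.card_erase_of_mem hc, h5]
      · exact fun u hu v hv => hind u (Finset.mem_of_mem_erase hu) v (Finset.mem_of_mem_erase hv)
  · intro S hS T hT hST
    obtain ⟨A, hA, rfl⟩ := Finset.mem_image.mp hS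
    obtain ⟨B, hB, rfl⟩ := Finset.mem_image.mp hT
    have hAB : Disjoint A B := by
      rw [Finset.disjoint_left]
      intro w hwA hwB
      obtain ⟨C, hC⟩ := Finset.card_eq_one.mp
        (hone w (Finset.mem_powerset.mp (Finset.mem_filter.mp hA).1 hwA))
      have h1 : A ∈ F.filter (w ∈ ·) := Finset.mem_filter.mpr ⟨hA, hwA⟩
      have h2 : B ∈ F.filter (w ∈ ·) := Finset.mem_filter.mpr ⟨hB, hwB⟩
      rw [hC, Finset.mem_singleton] at h1 h2
      exact hST (by rw [h1, h2])
    rw [← Finset.insert_inter_distrib, Finset.disjoint_iff_inter_eq_empty.mp hAB]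
    rfl

end Cfsg.Agent.Lib.Srg77.GQ15
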