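import Cfsg.Agent.Lib.Srg77.Local
import Cfsg.Agent.Lib.Srg77.GQ15

/-!
The 22 cocliques of size 21 of an srg(77,16,0,4).
-/

set_option autoImplicit false
set_option linter.unusedSectionVars false

namespace Cfsg.Agent.Lib.Srg77

open Finset

variable {V : Type*} [Fintype V] [DecidableEq V] {G : SimpleGraph V} [DecidableRel G.Adj]

/-- The mates of `x`, with `x`. -/
def cls (G : SimpleGraph V) [DecidableRel G.Adj] (v x : V) : Finset V :=
  (far G v).filter fun y => y = x ∨ meet G v x y = 0

/-- The classes. -/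
abbrev Cl (G : SimpleGraph V) [DecidableRel G.Adj] (v : V) : Type _ :=
  {K : Finset V // K ∈ (far G v).image (cls G v)}

/-- The class of a non-neighbour of `v`. -/
def cl (G : SimpleGraph V) [DecidableRel G.Adj] {v x : V} (hx : x ∈ far G v) : Cl G v :=
  ⟨cls G v x, Finset.mem_image_of_mem _ hx⟩

/-- Two classes meet doubly. -/
def Rel (G : SimpleGraph V) [DecidableRel G.Adj] {v : V} (K L : Cl G v) : Prop :=
  ∃ x ∈ K.1, ∃ y ∈ L.1, meet G v x y = 2

instance {v : V} : DecidableRel (Rel G (v := v)) := fun K L => by unfold Rel; infer_instance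

theorem mem_cls {v x y : V} : y ∈ cls G v x ↔ y ∈ far G v ∧ (y = x ∨ meet G v x y = 0) := by
  simp [cls]

variable (h : G.IsSRGWith 77 16 0 4) {v : V}
include h

theorem card_cls {x : V} (hx : x ∈ far G v) : (cls G v x).card = 4 := by
  have e : cls G v x = insert x (((far G v).erase x).filter fun y => meet G v x y = 0) := by
    ext y
    simp only [mem_cls, Finset.mem_insert, Finset.mem_filter, Finset.mem_erase]
    by_cases e : y = x <;> simp [e, hx]
  rw [e, Finset.card_insert_of_notMem (by simp), (meet_counts h hx).1]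

theorem cls_eq {x y : V} (hx : x ∈ far G v) (hy : y ∈ cls G v x) : cls G v y = cls G v x := by
  rw [mem_cls] at hy
  obtain ⟨hyf, rfl | hxy⟩ := hy
  · rfl
  ext z
  simp only [mem_cls]
  refine and_congr_right fun hz => ?_
  by_cases h1 : z = x
  · subst h1; simp [meet_comm v y z, hxy]
  by_cases h2 : z = y
  · subst h2; simp [hxy]
  simp only [h1, h2, false_or]
  rw [meet_comm v y z, meet_comm v x z, meet_eq_of_mate h hx hyf hz hxy h1 h2]

theorem meet_eq_of_mem_cls {x y z : V} (hx : x ∈ far G v) (hy : y ∈ cls G v x) (hz : z ∈ far G v)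
    (hzx : z ∉ cls G v x) : meet G v z y = meet G v z x := by
  have h1 : z ≠ x := fun e => hzx (mem_cls.mpr ⟨hz, Or.inl e⟩)
  have h2 : z ≠ y := fun e => hzx (e ▸ hy)
  rw [mem_cls] at hy
  obtain ⟨hyf, rfl | hxy⟩ := hy
  · rfl
  exact (meet_eq_of_mate h hx hyf hz hxy h1 h2).symm

theorem not_adj_of_mem_cls {x y z : V} (hx : x ∈ far G v) (hy : y ∈ cls G v x) (hz : z ∈ cls G v x) :
    ¬ G.Adj y z := fun hR => by
  have hyf := (mem_cls.mp hy).1
  rw [← cls_eq h hx hy, mem_cls] at hz
  rcases hz.2 with e | e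
  · exact hR.ne e.symm
  · rw [meet_of_adj h hR] at e; omega

theorem meet_ne_two_of_mem_cls {x y : V} (hx : x ∈ far G v) (hy : y ∈ cls G v x) :
    meet G v x y ≠ 2 := by
  rcases (mem_cls.mp hy).2 with e | e
  · subst e; rw [meet_self h hx]; omega
  · omega

theorem exists_rep (K : Cl G v) : ∃ x, ∃ hx : x ∈ far G v, K = cl G hx := by
  obtain ⟨x, hx, e⟩ := Finset.mem_image.mp K.2
  exact ⟨x, hx, Subtype.ext e.symm⟩

theorem self_mem {x : V} (hx : x ∈ far G v) : x ∈ cls G v x := mem_cls.mpr ⟨hx, Or.inl rfl⟩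

theorem rel_iff {x y : V} (hx : x ∈ far G v) (hy : y ∈ far G v) :
    Rel G (cl G hx) (cl G hy) ↔ meet G v x y = 2 := by
  refine ⟨?_, fun e => ⟨x, self_mem h hx, y, self_mem h hy, e⟩⟩
  rintro ⟨a, ha, b, hb, e⟩
  change a ∈ cls G v x at ha
  change b ∈ cls G v y at hb
  have haf := (mem_cls.mp ha).1
  have hbf := (mem_cls.mp hb).1
  by_cases hab : x ∈ cls G v y
  · have e' : cls G v x = cls G v y := cls_eq h hy hab
    have : b ∈ cls G v a := by rw [cls_eq h hx ha, e']; exact hb
    exact absurd e (meet_ne_two_of_mem_cls h haf this)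
  have h1 : meet G v x b = meet G v x y := meet_eq_of_mem_cls h hy hb hx hab
  have h2 : b ∉ cls G v x := fun hbx => hab (by
    rw [← cls_eq h hy hb, cls_eq h hx hbx]; exact self_mem h hx)
  have h3 : meet G v b a = meet G v b x := meet_eq_of_mem_cls h hx ha hbf h2
  rw [meet_comm v a b, h3, meet_comm v b x, h1] at e
  exact e

theorem card_filter_cls (p : Cl G v → Prop) [DecidablePred p] (q : V → Prop) [DecidablePred q]
    (hq : ∀ x, ∀ hx : x ∈ far G v, q x ↔ p (cl G hx)) :
    ((far G v).filter q).card = 4 * (univ.filter p).card := by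
  have e : ∀ K : Cl G v, ((far G v).attach.filter fun x => cl G x.2 = K).card = 4 := by
    intro K
    obtain ⟨x, hx, rfl⟩ := exists_rep h K
    rw [← card_cls h hx, ← Finset.card_map (Function.Embedding.subtype _)]
    congr 1
    ext y
    simp only [Finset.mem_map, Finset.mem_filter, Finset.mem_attach, true_and,
      Function.Embedding.subtype_apply]
    refine ⟨?_, fun hy => ⟨⟨y, (mem_cls.mp hy).1⟩, Subtype.ext (cls_eq h hx hy), rfl⟩⟩
    rintro ⟨⟨z, hz⟩, hzK, rfl⟩
    have : cls G v z = cls G v x := congrArg Subtype.val hzK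
    exact this ▸ self_mem h hz
  calc ((far G v).filter q).card
      = ((far G v).attach.filter fun x => p (cl G x.2)).card := by
        rw [← Finset.card_map (Function.Embedding.subtype _)
          (s := (far G v).attach.filter fun x => p (cl G x.2))]
        congr 1
        ext y
        simp only [Finset.mem_map, Finset.mem_filter, Finset.mem_attach, true_and,
          Function.Embedding.subtype_apply]
        exact ⟨fun hy => ⟨⟨y, hy.1⟩, (hq y hy.1).mp hy.2, rfl⟩,
          fun ⟨⟨z, hz⟩, hzp, e⟩ => e ▸ ⟨hz, (hq z hz).mpr hzp⟩⟩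
    _ = ∑ K ∈ univ.filter p,
          (((far G v).attach.filter fun x => p (cl G x.2)).filter fun x => cl G x.2 = K).card :=
        Finset.card_eq_sum_card_fiberwise fun x hx => by simpa using hx
    _ = 4 * (univ.filter p).card := by
        rw [Finset.sum_congr rfl (g := fun _ => 4), Finset.sum_const, smul_eq_mul, mul_comm]
        intro K hK
        rw [Finset.filter_filter, ← e K]
        congr 1
        refine Finset.filter_congr fun x _ => ⟨fun hx => hx.2, fun hx => ⟨?_, hx⟩⟩
        rw [hx]
        exact (Finset.mem_filter.mp hK).2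

theorem sum_cap_cls {x y : V} (hx : x ∈ far G v) (hy : y ∈ far G v) :
    ∑ z ∈ cls G v y, (cap G v x ∩ cap G v z).card = 4 := by
  -- the neighbourhoods cut out by a class are disjoint and fill the neighbourhood of `v`
  have hdis : ∀ a ∈ cls G v y, ∀ b ∈ cls G v y, a ≠ b → Disjoint (cap G v a) (cap G v b) := by
    intro a ha b hb hab
    rw [← cls_eq h hy ha, mem_cls] at hb
    rcases hb.2 with e | e
    · exact absurd e.symm hab
    · rw [Finset.disjoint_iff_inter_eq_empty, ← Finset.card_eq_zero]
      unfold meet at e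
      omega
  have hfill : (cls G v y).biUnion (cap G v) = univ.filter fun n => G.Adj v n := by
    apply Finset.eq_of_subset_of_card_le
    · intro n hn
      obtain ⟨a, -, hna⟩ := Finset.mem_biUnion.mp hn
      simpa using (mem_cap.mp hna).1
    · rw [Finset.card_biUnion hdis, Finset.sum_congr rfl fun a ha => card_cap h (mem_cls.mp ha).1,
        Finset.sum_const, card_cls h hy, deg h]
      rfl
  rw [← Finset.card_biUnion, ← Finset.inter_biUnion, hfill, Finset.inter_eq_left.mpr, card_cap h hx]
  · intro n hn; simpa using (mem_cap.mp hn).1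
  · exact fun a ha b hb hab => (hdis a ha b hb hab).mono Finset.inter_subset_right
      Finset.inter_subset_right

theorem card_adj_cls {x y : V} (hx : x ∈ far G v) (hy : y ∈ far G v) :
    ((cls G v y).filter fun z => G.Adj x z).card = if meet G v x y = 2 then 2 else 0 := by
  by_cases hm : x ∈ cls G v y
  · have hy' : y ∈ cls G v x := by rw [cls_eq h hy hm]; exact self_mem h hy
    rw [if_neg (meet_ne_two_of_mem_cls h hx hy'), Finset.filter_false_of_mem]
    · rfl
    · exact fun z hz => not_adj_of_mem_cls h hy hm hz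
  have hconst : ∀ z ∈ cls G v y, meet G v x z = meet G v x y := fun z hz =>
    meet_eq_of_mem_cls h hy hz hx hm
  split_ifs with h2
  · have key : ∀ z ∈ cls G v y,
        (cap G v x ∩ cap G v z).card + 2 * (if G.Adj x z then 1 else 0) = 2 := fun z hz => by
      have := hconst z hz
      rw [h2] at this
      unfold meet at this
      omega
    have e := Finset.sum_congr rfl key
    rw [Finset.sum_add_distrib, sum_cap_cls h hx hy, ← Finset.mul_sum, Finset.sum_boole,
      Finset.sum_const, card_cls h hy] at e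
    simp only [smul_eq_mul, Nat.cast_id] at e
    omega
  · rw [Finset.filter_false_of_mem]
    · rfl
    · intro z hz ha
      have := hconst z hz
      rw [meet_of_adj h ha] at this
      exact h2 this.symm

theorem card_far_common {x y : V} (hne : x ≠ y) :
    ((far G v).filter fun w => G.Adj x w ∧ G.Adj y w).card + (cap G v x ∩ cap G v y).card ≤ 4 ∧
      (x ∈ far G v → y ∈ far G v → ¬ G.Adj x y →
        ((far G v).filter fun w => G.Adj x w ∧ G.Adj y w).card + (cap G v x ∩ cap G v y).card = 4) := by
  have hle : Disjoint ((far G v).filter fun w => G.Adj x w ∧ G.Adj y w)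
      (cap G v x ∩ cap G v y) := by
    rw [Finset.disjoint_left]
    intro w hw hw'
    exact (mem_far.mp (Finset.mem_filter.mp hw).1).2 (mem_cap.mp (Finset.mem_inter.mp hw').1).1
  have hsub : ((far G v).filter fun w => G.Adj x w ∧ G.Adj y w) ∪ (cap G v x ∩ cap G v y) ⊆
      univ.filter fun w => G.Adj x w ∧ G.Adj y w := by
    intro w hw
    simp only [Finset.mem_union, Finset.mem_filter, Finset.mem_inter, mem_cap, Finset.mem_univ,
      true_and] at hw ⊢
    tauto
  constructor
  · rw [← Finset.card_union_of_disjoint hle]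
    refine (Finset.card_le_card hsub).trans ?_
    by_cases ha : G.Adj x y
    · rw [common_adj h ha]; omega
    · rw [common_not_adj h hne ha]
  · intro hx hy ha
    rw [← Finset.card_union_of_disjoint hle, ← common_not_adj h hne ha]
    congr 1
    apply Finset.Subset.antisymm hsub
    intro w hw
    simp only [Finset.mem_union, Finset.mem_filter, Finset.mem_inter, mem_cap, Finset.mem_univ,
      true_and, mem_far] at hw ⊢
    by_cases hv : G.Adj v w
    · exact Or.inr ⟨⟨hv, hw.1⟩, hv, hw.2⟩
    · exact Or.inl ⟨⟨fun e => (mem_far.mp hx).2 (e ▸ hw.1).symm, hv⟩, hw⟩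

theorem rel_common {x y : V} (hx : x ∈ far G v) (hy : y ∈ far G v) :
    (univ.filter fun K : Cl G v => Rel G (cl G hx) K ∧ Rel G (cl G hy) K).card * 4 =
      ∑ z ∈ cls G v y, ((far G v).filter fun w => G.Adj x w ∧ G.Adj z w).card := by
  set S := (far G v).filter fun w => meet G v x w = 2 ∧ meet G v y w = 2 with hS
  have hSc := card_filter_cls h (fun K : Cl G v => Rel G (cl G hx) K ∧ Rel G (cl G hy) K)
    (fun w => meet G v x w = 2 ∧ meet G v y w = 2) (fun w hw => by rw [rel_iff h, rel_iff h])
  -- half of `S` is adjacent to `x`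
  have hhalf : 2 * (S.filter fun w => G.Adj x w).card = S.card := by
    have e : ∀ w ∈ S, cls G v w ⊆ S := fun w hw z hz => by
      rw [hS, Finset.mem_filter] at hw ⊢
      refine ⟨(mem_cls.mp hz).1, ?_, ?_⟩
      · have : x ∉ cls G v w := fun e => meet_ne_two_of_mem_cls h hx
          ((cls_eq h hw.1 e).symm ▸ self_mem h hw.1) hw.2.1
        rw [meet_eq_of_mem_cls h hw.1 hz hx this, hw.2.1]
      · have : y ∉ cls G v w := fun e => meet_ne_two_of_mem_cls h hy
          ((cls_eq h hw.1 e).symm ▸ self_mem h hw.1) hw.2.2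
        rw [meet_eq_of_mem_cls h hw.1 hz hy this, hw.2.2]
    rw [Finset.card_eq_sum_card_image (cls G v) S,
      Finset.card_eq_sum_card_fiberwise (f := cls G v) (t := S.image (cls G v))
        (fun w hw => Finset.mem_image_of_mem _ (Finset.mem_filter.mp hw).1), Finset.mul_sum]
    refine Finset.sum_congr rfl fun K hK => ?_
    obtain ⟨w, hw, rfl⟩ := Finset.mem_image.mp hK
    have hwf := (Finset.mem_filter.mp hw).1
    have eF : S.filter (fun z => cls G v z = cls G v w) = cls G v w := by
      ext z
      rw [Finset.mem_filter]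
      exact ⟨fun hz => hz.2 ▸ self_mem h (Finset.mem_filter.mp hz.1).1,
        fun hz => ⟨e w hw hz, cls_eq h hwf hz⟩⟩
    rw [Finset.filter_comm, eF, card_adj_cls h hx hwf, if_pos (Finset.mem_filter.mp hw).2.1,
      card_cls h hwf]
    rfl
  have hswap : ∑ z ∈ cls G v y, ((far G v).filter fun w => G.Adj x w ∧ G.Adj z w).card =
      ∑ w ∈ (far G v).filter (fun w => G.Adj x w), ((cls G v y).filter fun z => G.Adj w z).card := by
    simp only [Finset.card_filter]
    rw [Finset.sum_comm, Finset.sum_filter]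
    refine Finset.sum_congr rfl fun w _ => ?_
    by_cases ha : G.Adj x w
    · simp [ha, G.adj_comm w]
    · simp [ha]
  rw [hswap, Finset.sum_congr rfl fun w hw =>
    card_adj_cls h (Finset.mem_filter.mp hw).1 hy, Finset.sum_ite, Finset.sum_const_zero, add_zero,
    Finset.sum_const, smul_eq_mul, Finset.filter_filter]
  have e : ((far G v).filter fun w => G.Adj x w ∧ meet G v w y = 2) = S.filter fun w => G.Adj x w := by
    rw [hS, Finset.filter_filter]
    refine Finset.filter_congr fun w _ => ⟨fun hw => ⟨⟨meet_of_adj h hw.1, ?_⟩, hw.1⟩,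
      fun hw => ⟨hw.2, ?_⟩⟩
    · rw [meet_comm]; exact hw.2
    · rw [meet_comm]; exact hw.1.2
  rw [e]
  rw [← hS] at hSc
  omega

theorem params : GQ15.Params (Rel G (v := v)) where
  symm := by
    rintro K L ⟨x, hx, y, hy, e⟩
    exact ⟨y, hy, x, hx, by rw [meet_comm]; exact e⟩
  irrefl K := by
    obtain ⟨x, hx, rfl⟩ := exists_rep h K
    rw [rel_iff h, meet_self h hx]
    omega
  card := by
    have := card_filter_cls h (v := v) (fun _ => True) (fun _ => True) (fun _ _ => Iff.rfl)
    simp only [Finset.filter_true, Finset.card_univ, card_far h] at this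
    omega
  deg K := by
    obtain ⟨x, hx, rfl⟩ := exists_rep h K
    have := card_filter_cls h (fun L => Rel G (cl G hx) L) (fun w => meet G v x w = 2)
      (fun w hw => (rel_iff h hx hw).symm)
    have e : ((far G v).filter fun w => meet G v x w = 2) =
        ((far G v).erase x).filter fun w => meet G v x w = 2 := by
      rw [Finset.filter_erase, Finset.erase_eq_self.mpr]
      simp [meet_self h hx]
    rw [e, (meet_counts h hx).2.2.1] at this
    omega
  lam := by
    intro K L hKL
    obtain ⟨x, hx, rfl⟩ := exists_rep h K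
    obtain ⟨y, hy, rfl⟩ := exists_rep h L
    rw [rel_iff h] at hKL
    have hxy : x ∉ cls G v y := fun e =>
      meet_ne_two_of_mem_cls h hx ((cls_eq h hy e).symm ▸ self_mem h hy) hKL
    have := rel_common h hx hy
    have hsum : ∑ z ∈ cls G v y, ((far G v).filter fun w => G.Adj x w ∧ G.Adj z w).card = 4 := by
      rw [Finset.sum_congr rfl (g := fun z => if G.Adj x z then 0 else 2)]
      · rw [Finset.sum_ite, Finset.sum_const_zero, zero_add, Finset.sum_const, smul_eq_mul]
        have h2 := card_adj_cls h hx hy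
        rw [if_pos hKL] at h2
        have := Finset.card_filter_add_card_filter_not (s := cls G v y) (fun z => G.Adj x z)
        rw [card_cls h hy] at this
        omega
      · intro z hz
        have hm := meet_eq_of_mem_cls h hy hz hx hxy
        rw [hKL] at hm
        have hne : x ≠ z := fun e => hxy (e ▸ hz)
        split_ifs with ha
        · rw [Finset.card_eq_zero, Finset.filter_eq_empty_iff]
          exact fun w _ hw => no_triangle h ha hw.1 hw.2
        · have := (card_far_common h (v := v) hne).2 hx (mem_cls.mp hz).1 ha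
          simp only [meet, ha, if_false] at hm
          omega
    omega
  mu := by
    intro K L hne hKL
    obtain ⟨x, hx, rfl⟩ := exists_rep h K
    obtain ⟨y, hy, rfl⟩ := exists_rep h L
    rw [rel_iff h] at hKL
    have hxy : x ∉ cls G v y := fun e => hne (Subtype.ext (cls_eq h hy e))
    have := rel_common h hx hy
    have hm1 : meet G v x y = 1 := by
      have hyx : y ≠ x := fun e => hxy (e ▸ self_mem h hy)
      have h2 := (meet_counts h hx).2.2.2 y (Finset.mem_erase.mpr ⟨hyx, hy⟩)
      have h0 : meet G v x y ≠ 0 := fun e => hxy (mem_cls.mpr ⟨hx, Or.inr (by rw [meet_comm]; exact e)⟩)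
      omega
    have hsum : ∑ z ∈ cls G v y, ((far G v).filter fun w => G.Adj x w ∧ G.Adj z w).card = 12 := by
      rw [Finset.sum_congr rfl (g := fun _ => 3), Finset.sum_const, card_cls h hy]
      · rfl
      · intro z hz
        have hm := meet_eq_of_mem_cls h hy hz hx hxy
        rw [hm1] at hm
        have hne : x ≠ z := fun e => hxy (e ▸ hz)
        have ha : ¬ G.Adj x z := fun e => by rw [meet_of_adj h e] at hm; omega
        have := (card_far_common h (v := v) hne).2 hx (mem_cls.mp hz).1 ha
        simp only [meet, ha, if_false] at hm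
        omega
    omega

/-- A coclique of maximal size. -/
def IsCo (G : SimpleGraph V) (S : Finset V) : Prop :=
  S.card = 21 ∧ ∀ a ∈ S, ∀ b ∈ S, ¬ G.Adj a b

theorem co_outside {S : Finset V} (hS : IsCo G S) {n : V} (hn : n ∉ S) :
    (S.filter fun u => G.Adj n u).card = 6 := by
  have hop : ∀ z, op G 42 7 (-2) (fun u => if u ∈ S then 1 else 0) z =
      42 * (if z ∈ S then 1 else 0) + 7 * ((S.filter fun u => G.Adj z u).card : ℤ) - 2 * 21 := by
    intro z
    simp only [op, adj01, mul_ite, mul_one, mul_zero, Finset.sum_ite_mem, Finset.univ_inter,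
      Finset.sum_boole, Finset.sum_const, nsmul_eq_mul, hS.1]
    split_ifs <;> simp <;> ring
  have key : op G 42 7 (-2) (fun u => if u ∈ S then 1 else 0) n = 0 := by
    refine kernelQ h _ (fun z hz => ?_) n
    have hzS : z ∈ S := by by_contra e; exact hz (if_neg e)
    show op G 42 7 (-2) _ z = 0
    rw [hop, if_pos hzS, Finset.filter_false_of_mem (hS.2 z hzS)]
    simp
  rw [hop, if_neg hn] at key
  omega

theorem co_class {S : Finset V} (hS : IsCo G S) (hv : v ∈ S) {x : V} (hxS : x ∈ S) (hxv : x ≠ v) :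
    cls G v x ⊆ S ∧ ∀ y ∈ S, y ≠ v → meet G v x y ≠ 2 := by
  have hfar : ∀ y ∈ S, y ≠ v → y ∈ far G v := fun y hy hyv => mem_far.mpr ⟨hyv, hS.2 v hv y hy⟩
  have hx := hfar x hxS hxv
  set U := (S.erase v).erase x with hU
  have hUc : U.card = 19 := by
    rw [hU, Finset.card_erase_of_mem (Finset.mem_erase.mpr ⟨hxv, hxS⟩),
      Finset.card_erase_of_mem hv, hS.1]
  have hUsub : U ⊆ (far G v).erase x := fun y hy => by
    simp only [hU, Finset.mem_erase] at hy
    exact Finset.mem_erase.mpr ⟨hy.1, hfar y hy.2.2 hy.2.1⟩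
  have hmeet : ∀ y ∈ S, meet G v x y = (cap G v x ∩ cap G v y).card := fun y hy => by
    simp [meet, hS.2 x hxS y hy]
  have e16 : ∑ y ∈ U, meet G v x y = 16 := by
    have e : (cap G v x ∩ cap G v x).card + ∑ y ∈ U, (cap G v x ∩ cap G v y).card =
        ∑ y ∈ S.erase v, (cap G v x ∩ cap G v y).card :=
      Finset.add_sum_erase (S.erase v) (fun y => (cap G v x ∩ cap G v y).card)
        (Finset.mem_erase.mpr ⟨hxv, hxS⟩)
    rw [sum_card_inter (S.erase v)] at e
    have e2 : ∀ n ∈ cap G v x, ((S.erase v).filter fun y => n ∈ cap G v y).card = 5 := by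
      intro n hn
      have hnS : n ∉ S := fun e => hS.2 v hv n e (mem_cap.mp hn).1
      have : ((S.erase v).filter fun y => n ∈ cap G v y) = (S.filter fun u => G.Adj n u).erase v := by
        ext y
        simp only [Finset.mem_filter, Finset.mem_erase, mem_cap]
        exact ⟨fun hy => ⟨hy.1.1, hy.1.2, hy.2.2.symm⟩,
          fun hy => ⟨⟨hy.1, hy.2.1⟩, (mem_cap.mp hn).1, hy.2.2.symm⟩⟩
      rw [this, Finset.card_erase_of_mem (Finset.mem_filter.mpr ⟨hv, (mem_cap.mp hn).1.symm⟩),
        co_outside h hS hnS]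
    rw [Finset.sum_congr rfl e2, Finset.sum_const, Finset.inter_self, card_cap h hx,
      smul_eq_mul] at e
    rw [Finset.sum_congr rfl fun y hy =>
      hmeet y (Finset.mem_of_mem_erase (Finset.mem_of_mem_erase hy))]
    simp only [hU] at e ⊢
    omega
  obtain ⟨c0, -, -, hle⟩ := meet_counts h hx
  have hsub : U.filter (fun y => meet G v x y = 0) ⊆
      ((far G v).erase x).filter fun y => meet G v x y = 0 :=
    Finset.filter_subset_filter _ hUsub
  have d : (U.filter fun y => meet G v x y = 2).card + U.card =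
      (U.filter fun y => meet G v x y = 0).card + ∑ y ∈ U, meet G v x y := by
    simp only [Finset.card_filter, Finset.card_eq_sum_ones U, ← Finset.sum_add_distrib]
    refine Finset.sum_congr rfl fun y hy => ?_
    have := hle y (hUsub hy)
    interval_cases meet G v x y <;> simp
  have hc0 := Finset.card_le_card hsub
  have heq : U.filter (fun y => meet G v x y = 0) =
      ((far G v).erase x).filter fun y => meet G v x y = 0 :=
    Finset.eq_of_subset_of_card_le hsub (by omega)
  have h20 : (U.filter fun y => meet G v x y = 2) = ∅ := Finset.card_eq_zero.mp (by omega)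
  constructor
  · intro y hy
    obtain ⟨hyf, e | e⟩ := mem_cls.mp hy
    · exact e ▸ hxS
    · by_cases hyx : y = x
      · exact hyx ▸ hxS
      have : y ∈ U.filter (fun y => meet G v x y = 0) := by
        rw [heq]; exact Finset.mem_filter.mpr ⟨Finset.mem_erase.mpr ⟨hyx, hyf⟩, e⟩
      exact Finset.mem_of_mem_erase (Finset.mem_of_mem_erase (Finset.mem_filter.mp this).1)
  · intro y hy hyv e
    by_cases hyx : y = x
    · subst hyx; rw [meet_self h hx] at e; omega
    · have : y ∈ U.filter (fun y => meet G v x y = 2) :=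
        Finset.mem_filter.mpr ⟨Finset.mem_erase.mpr ⟨hyx, Finset.mem_erase.mpr ⟨hyv, hy⟩⟩, e⟩
      rw [h20] at this
      simp at this

/-- The classes inside a coclique. -/
def classesOf (_h : G.IsSRGWith 77 16 0 4) (v : V) (S : Finset V) : Finset (Cl G v) :=
  univ.filter fun K => K.1 ⊆ S

/-- The coclique of a set of classes. -/
def coOf (_h : G.IsSRGWith 77 16 0 4) (v : V) (T : Finset (Cl G v)) : Finset V :=
  insert v (T.biUnion fun K => K.1)

theorem mem_far_of_mem {K : Cl G v} {y : V} (hy : y ∈ K.1) : y ∈ far G v := by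
  obtain ⟨x, hx, rfl⟩ := exists_rep h K
  exact (mem_cls.mp hy).1

theorem eq_cl_of_mem {K : Cl G v} {y : V} (hy : y ∈ K.1) : K = cl G (mem_far_of_mem h hy) := by
  obtain ⟨x, hx, rfl⟩ := exists_rep h K
  exact Subtype.ext (cls_eq h hx hy).symm

theorem classesOf_coOf (T : Finset (Cl G v)) : classesOf h v (coOf h v T) = T := by
  ext K
  refine ⟨fun hK => ?_, fun hK => Finset.mem_filter.mpr ⟨Finset.mem_univ _, fun y hy =>
    Finset.mem_insert_of_mem (Finset.mem_biUnion.mpr ⟨K, hK, hy⟩)⟩⟩
  replace hK := (Finset.mem_filter.mp hK).2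
  obtain ⟨x, hx, rfl⟩ := exists_rep h K
  rcases Finset.mem_insert.mp (hK (self_mem h hx)) with e | e
  · exact absurd e (mem_far.mp hx).1
  · obtain ⟨L, hL, hxL⟩ := Finset.mem_biUnion.mp e
    rwa [eq_cl_of_mem h hxL] at hL

theorem card_coOf (T : Finset (Cl G v)) : (coOf h v T).card = 4 * T.card + 1 := by
  rw [coOf, Finset.card_insert_of_notMem, Finset.card_biUnion]
  · rw [Finset.sum_congr rfl (g := fun _ => 4), Finset.sum_const, smul_eq_mul, mul_comm]
    intro K _
    obtain ⟨x, hx, rfl⟩ := exists_rep h K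
    exact card_cls h hx
  · intro K _ L _ hKL
    rw [Function.onFun, Finset.disjoint_left]
    intro y hy hy'
    exact hKL ((eq_cl_of_mem h hy).trans (eq_cl_of_mem h hy').symm)
  · intro e
    obtain ⟨L, -, hvL⟩ := Finset.mem_biUnion.mp e
    exact (mem_far.mp (mem_far_of_mem h hvL)).1 rfl

theorem co_iff {S : Finset V} :
    IsCo G S ∧ v ∈ S ↔ ∃ T : Finset (Cl G v), T.card = 5 ∧ GQ15.Indep (Rel G) T ∧ coOf h v T = S := by
  constructor
  · rintro ⟨hS, hv⟩
    have hcov : coOf h v (classesOf h v S) = S := by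
      apply Finset.Subset.antisymm
      · intro y hy
        rcases Finset.mem_insert.mp hy with e | e
        · exact e ▸ hv
        · obtain ⟨K, hK, hyK⟩ := Finset.mem_biUnion.mp e
          exact (Finset.mem_filter.mp hK).2 hyK
      · intro y hy
        by_cases hyv : y = v
        · exact hyv ▸ Finset.mem_insert_self _ _
        have hyf : y ∈ far G v := mem_far.mpr ⟨hyv, hS.2 v hv y hy⟩
        exact Finset.mem_insert_of_mem (Finset.mem_biUnion.mpr ⟨cl G hyf,
          Finset.mem_filter.mpr ⟨Finset.mem_univ _, (co_class h hS hv hy hyv).1⟩, self_mem h hyf⟩)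
    refine ⟨classesOf h v S, ?_, ?_, hcov⟩
    · have := card_coOf h (classesOf h v S)
      rw [hcov, hS.1] at this
      omega
    · intro K hK L hL hR
      obtain ⟨x, hx, rfl⟩ := exists_rep h K
      obtain ⟨y, hy, rfl⟩ := exists_rep h L
      rw [rel_iff h] at hR
      exact (co_class h hS hv ((Finset.mem_filter.mp hK).2 (self_mem h hx)) (mem_far.mp hx).1).2 y
        ((Finset.mem_filter.mp hL).2 (self_mem h hy)) (mem_far.mp hy).1 hR
  · rintro ⟨T, hT, hind, rfl⟩
    refine ⟨⟨by rw [card_coOf, hT], ?_⟩, Finset.mem_insert_self _ _⟩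
    intro a ha b hb hab
    rcases Finset.mem_insert.mp ha with ea | ea <;> rcases Finset.mem_insert.mp hb with eb | eb
    · exact hab.ne (ea.trans eb.symm)
    · obtain ⟨L, -, hbL⟩ := Finset.mem_biUnion.mp eb
      exact (mem_far.mp (mem_far_of_mem h hbL)).2 (ea ▸ hab)
    · obtain ⟨K, -, haK⟩ := Finset.mem_biUnion.mp ea
      exact (mem_far.mp (mem_far_of_mem h haK)).2 (eb ▸ hab.symm)
    · obtain ⟨K, hK, haK⟩ := Finset.mem_biUnion.mp ea
      obtain ⟨L, hL, hbL⟩ := Finset.mem_biUnion.mp eb
      have := hind K hK L hL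
      rw [eq_cl_of_mem h haK, eq_cl_of_mem h hbL, rel_iff h] at this
      exact this (meet_of_adj h hab)

open scoped Classical in
/-- All maximal cocliques. -/
noncomputable def cocliques (G : SimpleGraph V) : Finset (Finset V) :=
  (univ : Finset V).powerset.filter fun S => IsCo G S

theorem mem_cocliques {S : Finset V} : S ∈ cocliques G ↔ IsCo G S := by
  classical
  simp [cocliques]

theorem pair_data {x : V} (hx : x ∈ far G v) :
    ((cocliques G).filter fun S => v ∈ S ∧ x ∈ S).card = 2 ∧
      ∀ S ∈ (cocliques G).filter (fun S => v ∈ S ∧ x ∈ S),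
        ∀ S' ∈ (cocliques G).filter (fun S => v ∈ S ∧ x ∈ S), S ≠ S' → (S ∩ S').card = 5 := by
  obtain ⟨s, hs2, hsmem, hsI⟩ := GQ15.indep_five_through (params h) (cl G hx)
  have heq : (cocliques G).filter (fun S => v ∈ S ∧ x ∈ S) = s.image (coOf h v) := by
    ext S
    simp only [Finset.mem_filter, mem_cocliques h, Finset.mem_image, hsmem]
    constructor
    · rintro ⟨hS, hv, hxS⟩
      obtain ⟨T, hT, hind, rfl⟩ := (co_iff h).mp ⟨hS, hv⟩
      refine ⟨T, ⟨hT, ?_, hind⟩, rfl⟩
      rw [← classesOf_coOf h T]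
      exact Finset.mem_filter.mpr ⟨Finset.mem_univ _, (co_class h hS hv hxS (mem_far.mp hx).1).1⟩
    · rintro ⟨T, ⟨hT, hxT, hind⟩, rfl⟩
      have := (co_iff h).mpr ⟨T, hT, hind, rfl⟩
      exact ⟨this.1, this.2, Finset.mem_insert_of_mem
        (Finset.mem_biUnion.mpr ⟨_, hxT, self_mem h hx⟩)⟩
  rw [heq]
  refine ⟨?_, ?_⟩
  · rw [Finset.card_image_of_injOn, hs2]
    intro A _ B _ e
    rw [← classesOf_coOf h A, ← classesOf_coOf h B, e]
  · intro S hS S' hS' hne
    obtain ⟨A, hA, rfl⟩ := Finset.mem_image.mp hS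
    obtain ⟨B, hB, rfl⟩ := Finset.mem_image.mp hS'
    have hAB : A ≠ B := fun e => hne (by rw [e])
    have : coOf h v A ∩ coOf h v B = coOf h v (A ∩ B) := by
      ext y
      simp only [coOf, Finset.mem_inter, Finset.mem_insert, Finset.mem_biUnion]
      constructor
      · rintro ⟨e | ⟨K, hK, hyK⟩, e' | ⟨L, hL, hyL⟩⟩
        · exact Or.inl e
        · exact Or.inl e
        · exact Or.inl e'
        · exact Or.inr ⟨K, ⟨hK, (eq_cl_of_mem h hyK).trans (eq_cl_of_mem h hyL).symm ▸ hL⟩, hyK⟩
      · rintro (e | ⟨K, ⟨hK, hK'⟩, hyK⟩)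
        · exact ⟨Or.inl e, Or.inl e⟩
        · exact ⟨Or.inr ⟨K, hK, hyK⟩, Or.inr ⟨K, hK', hyK⟩⟩
    rw [this, card_coOf, hsI A hA B hB hAB, Finset.card_singleton]

end Cfsg.Agent.Lib.Srg77
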