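import Cfsg.Agent.Lib.Srg77.Basic

/-!
The non-neighbours of a vertex of an srg(77,16,0,4): the fifteen classes of four mates.
-/

set_option autoImplicit false
set_option linter.unusedSectionVars false

namespace Cfsg.Agent.Lib.Srg77

open Finset

variable {V : Type*} [Fintype V] [DecidableEq V] {G : SimpleGraph V} [DecidableRel G.Adj]

/-- The non-neighbours of `v` other than `v`. -/
def far (G : SimpleGraph V) [DecidableRel G.Adj] (v : V) : Finset V :=
  univ.filter fun x => x ≠ v ∧ ¬ G.Adj v x

/-- The common neighbours of `v` and `x`. -/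
def cap (G : SimpleGraph V) [DecidableRel G.Adj] (v x : V) : Finset V :=
  univ.filter fun n => G.Adj v n ∧ G.Adj x n

/-- The number of common neighbours inside the neighbourhood of `v`, counting adjacency twice. -/
def meet (G : SimpleGraph V) [DecidableRel G.Adj] (v x y : V) : ℕ :=
  2 * (if G.Adj x y then 1 else 0) + (cap G v x ∩ cap G v y).card

theorem mem_far {v x : V} : x ∈ far G v ↔ x ≠ v ∧ ¬ G.Adj v x := by simp [far]

theorem mem_cap {v x n : V} : n ∈ cap G v x ↔ G.Adj v n ∧ G.Adj x n := by simp [cap]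

theorem meet_comm (v x y : V) : meet G v x y = meet G v y x := by
  simp only [meet, G.adj_comm x y, Finset.inter_comm (cap G v x)]

theorem sum_card_inter {ι : Type*} [DecidableEq ι] (s : Finset ι) (f : ι → Finset V) (T : Finset V) :
    ∑ i ∈ s, (T ∩ f i).card = ∑ n ∈ T, (s.filter fun i => n ∈ f i).card := by
  simp only [← Finset.filter_mem_eq_inter, Finset.card_filter]
  exact Finset.sum_comm

variable (h : G.IsSRGWith 77 16 0 4) {v : V}
include h

theorem card_cap {x : V} (hx : x ∈ far G v) : (cap G v x).card = 4 := by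
  rw [mem_far] at hx
  exact common_not_adj h (Ne.symm hx.1) hx.2

theorem card_far : (far G v).card = 60 := by
  have e : far G v = (univ.filter fun z => ¬ G.Adj v z).erase v := by ext; simp [far]
  rw [e, Finset.card_erase_of_mem (by simp)]
  have := Finset.card_filter_add_card_filter_not (s := (univ : Finset V)) (fun z => G.Adj v z)
  rw [deg h v, Finset.card_univ, h.card] at this
  omega

theorem inter_empty_of_adj {x y : V} (hxy : G.Adj x y) : cap G v x ∩ cap G v y = ∅ := by
  rw [Finset.eq_empty_iff_forall_notMem]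
  intro n hn
  rw [Finset.mem_inter, mem_cap, mem_cap] at hn
  exact no_triangle h hn.1.2.symm hn.2.2.symm hxy

theorem meet_of_adj {x y : V} (hxy : G.Adj x y) : meet G v x y = 2 := by
  simp [meet, hxy, inter_empty_of_adj h hxy]

theorem meet_self {x : V} (hx : x ∈ far G v) : meet G v x x = 4 := by
  simp [meet, card_cap h hx]

/-- The value of the first form at an indicator. -/
theorem opP_indicator (S : Finset V) (z : V) :
    op G 22 (-11) 2 (fun u => if u ∈ S then 1 else 0) z =
      22 * (if z ∈ S then 1 else 0) - 11 * ((S.filter fun u => G.Adj z u).card : ℤ) + 2 * S.card := by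
  simp only [op, adj01, mul_ite, mul_one, mul_zero]
  simp only [Finset.sum_ite_mem, Finset.univ_inter, Finset.sum_boole, Finset.sum_const, nsmul_eq_mul,
    mul_one]
  split_ifs <;> ring

theorem opP_add (c d : V → ℤ) (z : V) :
    op G 22 (-11) 2 (fun u => c u + d u) z = op G 22 (-11) 2 c z + op G 22 (-11) 2 d z := by
  simp only [op, mul_add, Finset.sum_add_distrib]
  ring

theorem opP_smul (k : ℤ) (c : V → ℤ) (z : V) :
    op G 22 (-11) 2 (fun u => k * c u) z = k * op G 22 (-11) 2 c z := by
  simp only [op, mul_left_comm _ k, ← Finset.mul_sum]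
  ring

theorem filter_adj_pair {z x y : V} (hxy : x ≠ y) :
    ((({x, y} : Finset V).filter fun u => G.Adj z u).card : ℤ) = adj01 G z x + adj01 G z y := by
  simp only [adj01, Finset.card_filter, Finset.sum_pair hxy]
  push_cast
  rfl

theorem inter_card_le_two {x y : V} (hx : x ∈ far G v) (hy : y ∈ far G v) (hxy : x ≠ y) :
    (cap G v x ∩ cap G v y).card ≤ 2 := by
  by_contra hlt
  have h4x := card_cap h hx
  have h4y := card_cap h hy
  rw [mem_far] at hx hy
  have hnadj : ¬ G.Adj x y := fun e => by rw [inter_empty_of_adj h e] at hlt; simp at hlt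
  set I := cap G v x ∩ cap G v y with hI
  have hIle : I.card ≤ 4 := (Finset.card_le_card Finset.inter_subset_left).trans h4x.le
  -- tops and bottoms of the induced bipartite graph
  set D := (cap G v x ∪ cap G v y) \ I with hD
  have hDcard : D.card + 2 * I.card = 8 := by
    have := Finset.card_union_add_card_inter (cap G v x) (cap G v y)
    rw [← hI] at this
    rw [hD, Finset.card_sdiff_of_subset (hI ▸ Finset.inter_subset_union)]
    omega
  have hnN : ∀ a ∈ cap G v x ∪ cap G v y, G.Adj v a := fun a ha =>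
    (Finset.mem_union.mp ha).elim (fun h' => (mem_cap.mp h').1) (fun h' => (mem_cap.mp h').1)
  have hIN : ∀ a ∈ I, a ∈ cap G v x ∪ cap G v y := fun a ha =>
    Finset.mem_union_left _ (Finset.mem_inter.mp ha).1
  have hIv : ∀ a ∈ I, G.Adj a v ∧ G.Adj a x ∧ G.Adj a y := fun a ha => by
    rw [hI, Finset.mem_inter, mem_cap, mem_cap] at ha
    exact ⟨ha.1.1.symm, ha.1.2.symm, ha.2.2.symm⟩
  set c : V → ℤ := fun u => 3 * (if u ∈ ({v} : Finset V) then 1 else 0) +
      (2 * (if u ∈ ({x, y} : Finset V) then 1 else 0) +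
      (2 * (if u ∈ I then 1 else 0) + 1 * (if u ∈ D then 1 else 0))) with hc
  have hval : ∀ z, op G 22 (-11) 2 c z =
      22 * c z - 11 * (3 * adj01 G z v + (2 * (adj01 G z x + adj01 G z y) +
        (2 * ((I.filter fun u => G.Adj z u).card : ℤ) + ((D.filter fun u => G.Adj z u).card : ℤ)))) +
        2 * (3 + (2 * 2 + (2 * (I.card : ℤ) + D.card))) := by
    intro z
    rw [hc, opP_add h, opP_smul h, opP_indicator h, opP_add h, opP_smul h, opP_indicator h,
      opP_add h, opP_smul h, opP_indicator h, opP_smul h, opP_indicator h, filter_adj_pair h hxy,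
      Finset.filter_singleton, Finset.card_pair hxy, Finset.card_singleton]
    simp only [adj01]
    split_ifs <;> simp <;> ring
  have hvD : v ∉ D ∧ v ∉ I := by
    constructor <;> intro e
    · exact G.loopless.irrefl v (hnN v (Finset.mem_sdiff.mp e).1)
    · exact G.loopless.irrefl v (hnN v (hIN v e))
  have hxD : x ∉ D ∧ x ∉ I ∧ y ∉ D ∧ y ∉ I := by
    refine ⟨fun e => hx.2 (hnN x (Finset.mem_sdiff.mp e).1), fun e => hx.2 (hnN x (hIN x e)),
      fun e => hy.2 (hnN y (Finset.mem_sdiff.mp e).1), fun e => hy.2 (hnN y (hIN y e))⟩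
  have hfull : ∀ (z : V) (S : Finset V), (∀ a ∈ S, G.Adj z a) →
      (S.filter fun u => G.Adj z u).card = S.card := fun z S hS => by
    rw [Finset.filter_true_of_mem hS]
  have hnone : ∀ (z : V) (S : Finset V), (∀ a ∈ S, ¬ G.Adj z a) →
      (S.filter fun u => G.Adj z u).card = 0 := fun z S hS => by
    rw [Finset.filter_false_of_mem hS, Finset.card_empty]
  have hcv : c v = 3 ∧ c x = 2 ∧ c y = 2 := by
    simp [hc, hvD, hxD, hx.1, hy.1, Ne.symm hx.1, Ne.symm hy.1]
  have hPv : op G 22 (-11) 2 c v = 66 - 11 * (2 * I.card + D.card) +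
      2 * (7 + 2 * (I.card : ℤ) + D.card) := by
    rw [hval, hcv.1, hfull v I (fun a ha => hnN a (hIN a ha)),
      hfull v D (fun a ha => hnN a (Finset.mem_sdiff.mp ha).1)]
    simp [adj01, hx.2, hy.2]
    ring
  have hPx : ∀ {x y : V}, x ≠ v → ¬ G.Adj v x → ¬ G.Adj v y → ¬ G.Adj x y → c x = 2 →
      cap G v x ∩ cap G v y = I → D = (cap G v x ∪ cap G v y) \ I →
      (∀ z, op G 22 (-11) 2 c z =
        22 * c z - 11 * (3 * adj01 G z v + (2 * (adj01 G z x + adj01 G z y) +
          (2 * ((I.filter fun u => G.Adj z u).card : ℤ) +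
            ((D.filter fun u => G.Adj z u).card : ℤ)))) +
          2 * (3 + (2 * 2 + (2 * (I.card : ℤ) + D.card)))) →
      op G 22 (-11) 2 c x = 44 - 11 * (2 * I.card + (((cap G v x).card : ℤ) - I.card)) +
        2 * (7 + 2 * (I.card : ℤ) + D.card) := by
    intro x y hxv hvx hvy hnxy hcx hIeq hDeq hv'
    have e1 : (D.filter fun u => G.Adj x u) = cap G v x \ I := by
      ext a
      rw [hDeq, Finset.mem_filter, Finset.mem_sdiff, Finset.mem_sdiff, Finset.mem_union]
      refine ⟨fun h' => ⟨?_, h'.1.2⟩, fun h' => ⟨⟨Or.inl h'.1, h'.2⟩, (mem_cap.mp h'.1).2⟩⟩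
      exact mem_cap.mpr ⟨h'.1.1.elim (fun e => (mem_cap.mp e).1) (fun e => (mem_cap.mp e).1), h'.2⟩
    have e3 : I ⊆ cap G v x := hIeq ▸ Finset.inter_subset_left
    rw [hv', hcx, e1, Finset.card_sdiff_of_subset e3, hfull x I (fun a ha => (mem_cap.mp (e3 ha)).2),
      Nat.cast_sub (Finset.card_le_card e3)]
    have e4 : ¬ G.Adj x v := fun e => hvx e.symm
    simp [adj01, e4, hnxy]
    ring
  have hN : ∀ a ∈ cap G v x ∪ cap G v y, ∀ S ⊆ cap G v x ∪ cap G v y,
      ∀ b ∈ S, ¬ G.Adj a b := fun a ha S hS b hb => no_triangle h (hnN a ha) (hnN b (hS hb))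
  have hPI : ∀ a ∈ I, op G 22 (-11) 2 c a = 44 - 77 + 2 * (7 + 2 * (I.card : ℤ) + D.card) := by
    intro a ha
    have hca : c a = 2 := by
      have n1 : a ∉ D := fun e => (Finset.mem_sdiff.mp e).2 ha
      have n2 : a ≠ v := fun e => hvD.2 (e ▸ ha)
      have n3 : a ≠ x := fun e => hxD.2.1 (e ▸ ha)
      have n4 : a ≠ y := fun e => hxD.2.2.2 (e ▸ ha)
      simp [hc, n1, n2, n3, n4, ha]
    obtain ⟨h1, h2, h3⟩ := hIv a ha
    rw [hval, hca, hnone a I (hN a (hIN a ha) I hIN),
      hnone a D (hN a (hIN a ha) D Finset.sdiff_subset)]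
    simp [adj01, h1, h2, h3]
    ring
  have hPD : ∀ a ∈ D, op G 22 (-11) 2 c a = 22 - 55 + 2 * (7 + 2 * (I.card : ℤ) + D.card) := by
    intro a ha
    have ha' := Finset.mem_sdiff.mp ha
    have hca : c a = 1 := by
      have n2 : a ≠ v := fun e => hvD.1 (e ▸ ha)
      have n3 : a ≠ x := fun e => hxD.1 (e ▸ ha)
      have n4 : a ≠ y := fun e => hxD.2.2.1 (e ▸ ha)
      simp [hc, ha'.2, n2, n3, n4, ha]
    have hva : G.Adj a v := (hnN a ha'.1).symm
    rw [hval, hca, hnone a I (hN a ha'.1 I hIN), hnone a D (hN a ha'.1 D Finset.sdiff_subset)]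
    have hex : (G.Adj a x ∧ ¬ G.Adj a y) ∨ (¬ G.Adj a x ∧ G.Adj a y) := by
      rcases Finset.mem_union.mp ha'.1 with h' | h'
      · exact Or.inl ⟨(mem_cap.mp h').2.symm, fun e => ha'.2 (Finset.mem_inter.mpr
          ⟨h', mem_cap.mpr ⟨(mem_cap.mp h').1, e.symm⟩⟩)⟩
      · exact Or.inr ⟨fun e => ha'.2 (Finset.mem_inter.mpr
          ⟨mem_cap.mpr ⟨(mem_cap.mp h').1, e.symm⟩, h'⟩), (mem_cap.mp h').2.symm⟩
    rcases hex with h' | h' <;> simp [adj01, hva, h'.1, h'.2] <;> ring
  have tot : ∑ z, c z * op G 22 (-11) 2 c z =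
      3 * op G 22 (-11) 2 c v + 2 * (op G 22 (-11) 2 c x + op G 22 (-11) 2 c y) +
        2 * (∑ a ∈ I, op G 22 (-11) 2 c a) + ∑ a ∈ D, op G 22 (-11) 2 c a := by
    simp only [hc, add_mul, Finset.sum_add_distrib, mul_assoc, ← Finset.mul_sum, ite_mul, one_mul,
      zero_mul, Finset.sum_ite_mem, Finset.univ_inter, Finset.sum_pair hxy, Finset.sum_singleton]
    ring
  have hnn : (0 : ℤ) ≤ ∑ z, c z * op G 22 (-11) 2 c z := nonnegP h c
  rw [tot, hPv, hPx hx.1 hx.2 hy.2 hnadj hcv.2.1 hI.symm hD hval,
    hPx hy.1 hy.2 hx.2 (fun e => hnadj e.symm) hcv.2.2 (by rw [Finset.inter_comm])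
      (by rw [hD, Finset.union_comm]) (fun z => by rw [hval z]; ring),
    Finset.sum_congr rfl hPI, Finset.sum_congr rfl hPD, Finset.sum_const, Finset.sum_const,
    h4x, h4y] at hnn
  simp only [nsmul_eq_mul] at hnn
  rcases (show (I.card = 3 ∧ D.card = 2) ∨ (I.card = 4 ∧ D.card = 0) by omega) with ⟨e1, e2⟩ | ⟨e1, e2⟩
  all_goals rw [e1, e2] at hnn; norm_num at hnn

theorem point_count {n : V} (hn : G.Adj v n) :
    ((far G v).filter fun x => n ∈ cap G v x).card = 15 := by
  have e : ((far G v).filter fun x => n ∈ cap G v x) = (univ.filter fun z => G.Adj n z).erase v := by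
    ext z
    simp only [Finset.mem_filter, mem_far, mem_cap, Finset.mem_erase, Finset.mem_univ, true_and]
    exact ⟨fun hz => ⟨hz.1.1, hz.2.2.symm⟩,
      fun hz => ⟨⟨hz.1, fun hvz => no_triangle h hn hvz hz.2⟩, hn, hz.2.symm⟩⟩
  rw [e, Finset.card_erase_of_mem (by simpa using hn.symm), deg h]

theorem pair_count {m n : V} (hm : G.Adj v m) (hn : G.Adj v n) (hmn : m ≠ n) :
    ((far G v).filter fun x => m ∈ cap G v x ∧ n ∈ cap G v x).card = 3 := by
  have e : ((far G v).filter fun x => m ∈ cap G v x ∧ n ∈ cap G v x) =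
      (univ.filter fun z => G.Adj m z ∧ G.Adj n z).erase v := by
    ext z
    simp only [Finset.mem_filter, mem_far, mem_cap, Finset.mem_erase, Finset.mem_univ, true_and]
    exact ⟨fun hz => ⟨hz.1.1, hz.2.1.2.symm, hz.2.2.2.symm⟩,
      fun hz => ⟨⟨hz.1, fun hvz => no_triangle h hm hvz hz.2.1⟩, ⟨hm, hz.2.1.symm⟩,
        ⟨hn, hz.2.2.symm⟩⟩⟩
  rw [e, Finset.card_erase_of_mem (by simpa using ⟨hm.symm, hn.symm⟩),
    common_not_adj h hmn (no_triangle h hm hn)]

theorem adj_far_count {x : V} (hx : x ∈ far G v) :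
    ((far G v).filter fun y => G.Adj x y).card = 12 := by
  have e : ((far G v).filter fun y => G.Adj x y) =
      (univ.filter fun y => G.Adj x y) \ cap G v x := by
    ext y
    simp only [Finset.mem_filter, mem_far, Finset.mem_sdiff, Finset.mem_univ, true_and, mem_cap]
    exact ⟨fun hy => ⟨hy.2, fun e => hy.1.2 e.1⟩,
      fun hy => ⟨⟨fun e => (mem_far.mp hx).2 (e ▸ hy.1).symm, fun e => hy.2 ⟨e, hy.1⟩⟩, hy.1⟩⟩
  rw [e, Finset.card_sdiff_of_subset (fun y hy => by simpa using (mem_cap.mp hy).2), deg h,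
    card_cap h hx]

theorem meet_counts {x : V} (hx : x ∈ far G v) :
    (((far G v).erase x).filter fun y => meet G v x y = 0).card = 3 ∧
      (((far G v).erase x).filter fun y => meet G v x y = 1).card = 32 ∧
        (((far G v).erase x).filter fun y => meet G v x y = 2).card = 24 ∧
          ∀ y ∈ (far G v).erase x, meet G v x y ≤ 2 := by
  set T := (far G v).erase x with hT
  set i := fun y => (cap G v x ∩ cap G v y).card with hi
  have hi2 : ∀ y ∈ T, i y ≤ 2 := fun y hy =>
    inter_card_le_two h hx (Finset.mem_of_mem_erase hy) (Ne.symm (Finset.ne_of_mem_erase hy))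
  have hTc : T.card = 59 := by rw [hT, Finset.card_erase_of_mem hx, card_far h]
  have hA : (T.filter fun y => G.Adj x y).card = 12 := by
    rw [hT, Finset.filter_erase, Finset.erase_eq_self.mpr (by simp), adj_far_count h hx]
  have s1 : ∑ y ∈ T, i y = 56 := by
    have e : i x + ∑ y ∈ T, i y = ∑ y ∈ far G v, i y := Finset.add_sum_erase _ _ hx
    have e2 : ∑ y ∈ far G v, i y = 60 := by
      rw [hi, sum_card_inter, Finset.sum_congr rfl (fun n hn => point_count h (mem_cap.mp hn).1),
        Finset.sum_const, card_cap h hx]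
      rfl
    have e3 : i x = 4 := by simp [hi, card_cap h hx]
    omega
  have s2 : ∑ y ∈ T, i y * (i y - 1) = 24 := by
    have e : ∀ y, i y * (i y - 1) =
        ((cap G v x).offDiag ∩ (cap G v y).offDiag).card := fun y => by
      rw [show (cap G v x).offDiag ∩ (cap G v y).offDiag = (cap G v x ∩ cap G v y).offDiag by
        ext p; simp; tauto, Finset.offDiag_card, Nat.mul_sub, mul_one]
    have e2 : ∑ y ∈ far G v, i y * (i y - 1) = 36 := by
      simp only [e, ← Finset.filter_mem_eq_inter, Finset.card_filter]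
      rw [Finset.sum_comm]
      simp only [← Finset.card_filter]
      have : ∀ p ∈ (cap G v x).offDiag,
          ((far G v).filter fun y => p ∈ (cap G v y).offDiag).card = 3 := by
        intro p hp
        rw [Finset.mem_offDiag] at hp
        rw [← pair_count h (mem_cap.mp hp.1).1 (mem_cap.mp hp.2.1).1 hp.2.2]
        congr 1
        ext y
        simp [hp.2.2]
      rw [Finset.sum_congr rfl this, Finset.sum_const, Finset.offDiag_card, card_cap h hx]
      rfl
    have e' : i x * (i x - 1) + ∑ y ∈ T, i y * (i y - 1) = ∑ y ∈ far G v, i y * (i y - 1) :=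
      Finset.add_sum_erase (far G v) (fun y => i y * (i y - 1)) hx
    have e3 : i x = 4 := by simp [hi, card_cap h hx]
    rw [e3] at e'
    omega
  have hmeet : ∀ y, meet G v x y = if G.Adj x y then 2 else i y := fun y => by
    by_cases ha : G.Adj x y
    · simp [ha, meet_of_adj h ha]
    · simp [ha, meet, hi]
  have hle : ∀ y ∈ T, meet G v x y ≤ 2 := fun y hy => by
    rw [hmeet]; split_ifs
    · omega
    · exact hi2 y hy
  -- the sums in terms of the counts
  have c1 : ∑ y ∈ T, i y * (i y - 1) = 2 * (T.filter fun y => i y = 2).card := by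
    rw [Finset.card_filter, Finset.mul_sum]
    refine Finset.sum_congr rfl fun y hy => ?_
    have := hi2 y hy
    interval_cases i y <;> simp
  have c2 : ∑ y ∈ T, i y = (T.filter fun y => i y = 1).card + 2 * (T.filter fun y => i y = 2).card := by
    rw [Finset.card_filter, Finset.card_filter, Finset.mul_sum, ← Finset.sum_add_distrib]
    refine Finset.sum_congr rfl fun y hy => ?_
    have := hi2 y hy
    interval_cases i y <;> simp
  have d1 : (T.filter fun y => meet G v x y = 1).card = (T.filter fun y => i y = 1).card := by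
    refine congrArg _ (Finset.filter_congr fun y _ => ?_)
    rw [hmeet]
    by_cases ha : G.Adj x y
    · simp [ha, hi, inter_empty_of_adj h ha]
    · simp [ha]
  have d2 : (T.filter fun y => meet G v x y = 2).card =
      (T.filter fun y => G.Adj x y).card + (T.filter fun y => i y = 2).card := by
    simp only [Finset.card_filter, ← Finset.sum_add_distrib]
    refine Finset.sum_congr rfl fun y _ => ?_
    rw [hmeet]
    by_cases ha : G.Adj x y
    · simp [ha, hi, inter_empty_of_adj h ha]
    · simp [ha]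
  have d3 : T.card = (T.filter fun y => meet G v x y = 0).card +
      (T.filter fun y => meet G v x y = 1).card + (T.filter fun y => meet G v x y = 2).card := by
    simp only [Finset.card_filter, ← Finset.sum_add_distrib, Finset.card_eq_sum_ones T]
    refine Finset.sum_congr rfl fun y hy => ?_
    have := hle y hy
    interval_cases meet G v x y <;> simp
  exact ⟨by omega, by omega, by omega, hle⟩

theorem meet_eq_of_mate {x y z : V} (hx : x ∈ far G v) (hy : y ∈ far G v) (hz : z ∈ far G v)
    (hxy : meet G v x y = 0) (hzx : z ≠ x) (hzy : z ≠ y) : meet G v z x = meet G v z y := by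
  have hxyne : x ≠ y := fun e => by rw [e, meet_self h hy] at hxy; omega
  have h4x := card_cap h hx
  have h4y := card_cap h hy
  have hnadj : ¬ G.Adj x y := fun e => by rw [meet_of_adj h e] at hxy; omega
  have hdis : cap G v x ∩ cap G v y = ∅ := by
    rw [← Finset.card_eq_zero]; unfold meet at hxy; omega
  rw [mem_far] at hx hy hz
  set c : V → ℤ := fun u => 2 * (if u ∈ ({y} : Finset V) then 1 else 0) +
      ((-2) * (if u ∈ ({x} : Finset V) then 1 else 0) +
      (1 * (if u ∈ cap G v y then 1 else 0) + (-1) * (if u ∈ cap G v x then 1 else 0))) with hc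
  have hval : ∀ u, op G 22 (-11) 2 c u = 22 * c u - 11 * (2 * adj01 G u y - 2 * adj01 G u x +
      (((cap G v y).filter fun n => G.Adj u n).card : ℤ) -
      (((cap G v x).filter fun n => G.Adj u n).card : ℤ)) := by
    intro u
    rw [hc, opP_add h, opP_smul h, opP_indicator h, opP_add h, opP_smul h, opP_indicator h,
      opP_add h, opP_smul h, opP_indicator h, opP_smul h, opP_indicator h,
      Finset.filter_singleton, Finset.filter_singleton, h4x, h4y, Finset.card_singleton,
      Finset.card_singleton]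
    simp only [adj01]
    split_ifs <;> simp <;> ring
  have hnc : ∀ {w}, ¬ G.Adj v w → ∀ {u}, w ∉ cap G v u := fun hw _ e => hw (mem_cap.mp e).1
  have hfil : ∀ u w, ((cap G v u).filter fun n => G.Adj w n) = cap G v u ∩ cap G v w := fun u w => by
    ext n
    simp only [Finset.mem_filter, Finset.mem_inter, mem_cap]
    tauto
  have hzero : ∀ u, c u ≠ 0 → opP G c u = 0 := by
    intro u hu
    show op G 22 (-11) 2 c u = 0
    by_cases e1 : u = x
    · subst e1
      have hcu : c u = -2 := by simp [hc, hxyne, hnc hx.2]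
      rw [hval, hcu, hfil, hfil, Finset.inter_self, h4x, Finset.inter_comm, hdis]
      simp [adj01, hnadj]
    by_cases e2 : u = y
    · subst e2
      have hcu : c u = 2 := by simp [hc, e1, hnc hy.2]
      rw [hval, hcu, hfil, hfil, Finset.inter_self, h4y, hdis]
      have a0 : ¬ G.Adj u x := fun e => hnadj e.symm
      simp [adj01, a0]
    have hn : u ∈ cap G v x ∪ cap G v y := by
      by_contra hn
      rw [Finset.mem_union, not_or] at hn
      apply hu
      simp [hc, e1, e2, hn.1, hn.2]
    have hNu : G.Adj v u :=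
      (Finset.mem_union.mp hn).elim (fun e => (mem_cap.mp e).1) fun e => (mem_cap.mp e).1
    have hnone : ∀ w, ((cap G v w).filter fun n => G.Adj u n) = ∅ := fun w =>
      Finset.filter_false_of_mem fun n hn' => no_triangle h hNu (mem_cap.mp hn').1
    rcases Finset.mem_union.mp hn with h' | h'
    · have hny : u ∉ cap G v y := fun e => by
        have := Finset.mem_inter.mpr ⟨h', e⟩
        rw [hdis] at this
        simp at this
      have hcu : c u = -1 := by simp [hc, e1, e2, h', hny]
      have a1 : G.Adj u x := (mem_cap.mp h').2.symm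
      have a2 : ¬ G.Adj u y := fun e => hny (mem_cap.mpr ⟨hNu, e.symm⟩)
      rw [hval, hcu, hnone, hnone]
      simp [adj01, a1, a2]
    · have hnx : u ∉ cap G v x := fun e => by
        have := Finset.mem_inter.mpr ⟨e, h'⟩
        rw [hdis] at this
        simp at this
      have hcu : c u = 1 := by simp [hc, e1, e2, h', hnx]
      have a1 : G.Adj u y := (mem_cap.mp h').2.symm
      have a2 : ¬ G.Adj u x := fun e => hnx (mem_cap.mpr ⟨hNu, e.symm⟩)
      rw [hval, hcu, hnone, hnone]
      simp [adj01, a1, a2]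
  have key : op G 22 (-11) 2 c z = 0 := kernelP h c hzero z
  have hcz : c z = 0 := by simp [hc, hzx, hzy, hnc hz.2]
  rw [hval, hcz, hfil, hfil] at key
  have : (meet G v z x : ℤ) = meet G v z y := by
    simp only [meet, adj01, Finset.inter_comm (cap G v z)] at key ⊢
    push_cast
    split_ifs at key ⊢ <;> omega
  exact_mod_cast this

end Cfsg.Agent.Lib.Srg77
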