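import Cfsg.Agent.Lib.Srg77.Cocliques
import Cfsg.Agent.Lib.Steiner22.GraphIso

/-!
An srg(77,16,0,4) is the block graph of an S(3,6,22), hence unique.
-/

set_option autoImplicit false
set_option linter.unusedSectionVars false

namespace Cfsg.Agent.Lib.Srg77

open Finset

variable {V : Type*} [Fintype V] [DecidableEq V] {G : SimpleGraph V} [DecidableRel G.Adj]
variable (h : G.IsSRGWith 77 16 0 4)
include h

theorem inter_le_five {S S' : Finset V} (hS : IsCo G S) (hS' : IsCo G S') (hne : S ≠ S') :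
    (S ∩ S').card ≤ 5 := by
  by_contra hlt
  obtain ⟨a, ha, b, hb, hab⟩ := Finset.one_lt_card.mp (show 1 < (S ∩ S').card by omega)
  rw [Finset.mem_inter] at ha hb
  have hbf : b ∈ far G a := mem_far.mpr ⟨Ne.symm hab, hS.2 a ha.1 b hb.1⟩
  have := (pair_data h hbf).2 S (Finset.mem_filter.mpr ⟨(mem_cocliques h).mpr hS, ha.1, hb.1⟩) S'
    (Finset.mem_filter.mpr ⟨(mem_cocliques h).mpr hS', ha.2, hb.2⟩) hne
  omega

theorem card_through (z : V) : ((cocliques G).filter (z ∈ ·)).card = 6 := by
  have e : ∑ x ∈ far G z, ((cocliques G).filter fun S => z ∈ S ∧ x ∈ S).card = 120 := by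
    rw [Finset.sum_congr rfl fun x hx => (pair_data h hx).1, Finset.sum_const, card_far h]
    rfl
  have e2 : ∑ x ∈ far G z, ((cocliques G).filter fun S => z ∈ S ∧ x ∈ S).card =
      ∑ S ∈ (cocliques G).filter (z ∈ ·), ((far G z).filter fun x => x ∈ S).card := by
    simp only [Finset.card_filter]
    rw [Finset.sum_comm, Finset.sum_filter]
    refine Finset.sum_congr rfl fun S _ => ?_
    by_cases hz : z ∈ S <;> simp [hz]
  have e3 : ∀ S ∈ (cocliques G).filter (z ∈ ·), ((far G z).filter fun x => x ∈ S).card = 20 := by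
    intro S hS
    rw [Finset.mem_filter, mem_cocliques h] at hS
    have : ((far G z).filter fun x => x ∈ S) = S.erase z := by
      ext x
      simp only [Finset.mem_filter, mem_far, Finset.mem_erase]
      exact ⟨fun hx => ⟨hx.1.1, hx.2⟩, fun hx => ⟨⟨hx.1, hS.1.2 z hS.2 x hx.2⟩, hx.2⟩⟩
    rw [this, Finset.card_erase_of_mem hS.2, hS.1.1]
  rw [e2, Finset.sum_congr rfl e3, Finset.sum_const, smul_eq_mul] at e
  omega

theorem card_cocliques : (cocliques G).card = 22 := by
  have e : ∑ S ∈ cocliques G, S.card = ∑ z : V, ((cocliques G).filter (z ∈ ·)).card := by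
    simp only [Finset.card_filter]
    rw [Finset.sum_comm]
    exact Finset.sum_congr rfl fun S _ => by simp
  rw [Finset.sum_congr rfl (fun S hS => ((mem_cocliques h).mp hS).1),
    Finset.sum_congr rfl (fun z _ => card_through h z), Finset.sum_const, Finset.sum_const,
    Finset.card_univ, h.card] at e
  simp only [smul_eq_mul] at e
  omega

theorem inter_eq_five {S S' : Finset V} (hS : S ∈ cocliques G) (hS' : S' ∈ (cocliques G).erase S) :
    (S ∩ S').card = 5 := by
  have hle : ∀ T ∈ (cocliques G).erase S, (S ∩ T).card ≤ 5 := fun T hT =>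
    inter_le_five h ((mem_cocliques h).mp hS) ((mem_cocliques h).mp (Finset.mem_of_mem_erase hT))
      (Ne.symm (Finset.ne_of_mem_erase hT))
  have e : (S ∩ S).card + ∑ T ∈ (cocliques G).erase S, (S ∩ T).card = ∑ T ∈ cocliques G, (S ∩ T).card :=
    Finset.add_sum_erase (cocliques G) (fun T => (S ∩ T).card) hS
  rw [sum_card_inter (cocliques G) (fun T => T) S,
    Finset.sum_congr rfl (fun z _ => card_through h z), Finset.sum_const, Finset.inter_self,
    ((mem_cocliques h).mp hS).1, smul_eq_mul] at e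
  have e2 : ∑ T ∈ (cocliques G).erase S, (S ∩ T).card = ∑ _T ∈ (cocliques G).erase S, 5 := by
    rw [Finset.sum_const, Finset.card_erase_of_mem hS, card_cocliques h, smul_eq_mul]
    omega
  exact (Finset.sum_eq_sum_iff_of_le hle).mp e2 S' hS'

theorem triple_le_one {S S' T : Finset V} (hS : S ∈ cocliques G) (hS' : S' ∈ cocliques G)
    (hT : T ∈ cocliques G) (h1 : S ≠ S') (h2 : S ≠ T) (h3 : S' ≠ T) :
    (S ∩ S' ∩ T).card ≤ 1 := by
  by_contra hlt
  obtain ⟨a, ha, b, hb, hab⟩ := Finset.one_lt_card.mp (show 1 < (S ∩ S' ∩ T).card by omega)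
  simp only [Finset.mem_inter] at ha hb
  have hbf : b ∈ far G a :=
    mem_far.mpr ⟨Ne.symm hab, ((mem_cocliques h).mp hS).2 a ha.1.1 b hb.1.1⟩
  have hsub : {S, S', T} ⊆ (cocliques G).filter fun U => a ∈ U ∧ b ∈ U := by
    intro U hU
    simp only [Finset.mem_insert, Finset.mem_singleton] at hU
    rcases hU with rfl | rfl | rfl
    · exact Finset.mem_filter.mpr ⟨hS, ha.1.1, hb.1.1⟩
    · exact Finset.mem_filter.mpr ⟨hS', ha.1.2, hb.1.2⟩
    · exact Finset.mem_filter.mpr ⟨hT, ha.2, hb.2⟩
  have := Finset.card_le_card hsub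
  rw [(pair_data h hbf).1, Finset.card_insert_of_notMem (by simp [h1, h2]),
    Finset.card_pair h3] at this
  omega

theorem triple_eq_one {S S' T : Finset V} (hS : S ∈ cocliques G)
    (hS' : S' ∈ (cocliques G).erase S) (hT : T ∈ ((cocliques G).erase S).erase S') :
    (S ∩ S' ∩ T).card = 1 := by
  set P := S ∩ S' with hP
  have hP5 : P.card = 5 := inter_eq_five h hS hS'
  set R := ((cocliques G).erase S).erase S' with hR
  have hle : ∀ U ∈ R, (P ∩ U).card ≤ 1 := fun U hU => by
    simp only [hR, Finset.mem_erase] at hU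
    exact triple_le_one h hS (Finset.mem_of_mem_erase hS') hU.2.2
      (Ne.symm (Finset.ne_of_mem_erase hS')) (Ne.symm hU.2.1) (Ne.symm hU.1)
  have e1 : (P ∩ S).card + ∑ U ∈ (cocliques G).erase S, (P ∩ U).card =
      ∑ U ∈ cocliques G, (P ∩ U).card :=
    Finset.add_sum_erase (cocliques G) (fun U => (P ∩ U).card) hS
  have e1' : (P ∩ S').card + ∑ U ∈ R, (P ∩ U).card = ∑ U ∈ (cocliques G).erase S, (P ∩ U).card :=
    Finset.add_sum_erase ((cocliques G).erase S) (fun U => (P ∩ U).card) hS'
  rw [Finset.inter_eq_left.mpr (hP ▸ Finset.inter_subset_left), hP5,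
    sum_card_inter (cocliques G) (fun U => U) P,
    Finset.sum_congr rfl (fun z _ => card_through h z), Finset.sum_const, hP5, smul_eq_mul] at e1
  rw [Finset.inter_eq_left.mpr (hP ▸ Finset.inter_subset_right), hP5] at e1'
  have e2 : ∑ U ∈ R, (P ∩ U).card = ∑ _U ∈ R, 1 := by
    rw [Finset.sum_const, hR, Finset.card_erase_of_mem hS', Finset.card_erase_of_mem hS,
      card_cocliques h, smul_eq_mul]
    simp only [hR] at e1'
    omega
  exact (Finset.sum_eq_sum_iff_of_le hle).mp e2 T hT

omit h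

/-- The points: the maximal cocliques. -/
abbrev Pts (G : SimpleGraph V) : Type _ := {S : Finset V // S ∈ cocliques G}

/-- The block of a vertex. -/
noncomputable def blkOf (G : SimpleGraph V) (z : V) : Finset (Pts G) := univ.filter fun S => z ∈ S.1

/-- The blocks. -/
def blocks (G : SimpleGraph V) : Set (Finset (Pts G)) := Set.range (blkOf G)

theorem mem_blkOf {z : V} {S : Pts G} : S ∈ blkOf G z ↔ z ∈ S.1 := by simp [blkOf]

include h

theorem card_pts : Fintype.card (Pts G) = 22 := by
  rw [Fintype.card_coe, card_cocliques h]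

theorem card_blkOf (z : V) : (blkOf G z).card = 6 := by
  rw [← card_through h z, ← Finset.card_map (Function.Embedding.subtype _)]
  congr 1
  ext S
  simp [blkOf, and_comm]

theorem steiner : IsSteinerSystem 3 6 (blocks G) := by
  refine ⟨fun b ⟨z, hz⟩ => hz ▸ card_blkOf h z, fun s hs => ?_⟩
  obtain ⟨A, B, C, hAB, hAC, hBC, rfl⟩ := Finset.card_eq_three.mp hs
  have h1 := triple_eq_one h A.2 (S' := B.1) (T := C.1)
    (Finset.mem_erase.mpr ⟨fun e => hAB (Subtype.ext e.symm), B.2⟩)
    (Finset.mem_erase.mpr ⟨fun e => hBC (Subtype.ext e.symm),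
      Finset.mem_erase.mpr ⟨fun e => hAC (Subtype.ext e.symm), C.2⟩⟩)
  obtain ⟨z, hz⟩ := Finset.card_eq_one.mp h1
  have hm : ∀ w, {A, B, C} ⊆ blkOf G w ↔ w = z := fun w => by
    rw [← Finset.mem_singleton, ← hz]
    simp [Finset.insert_subset_iff, mem_blkOf, and_assoc]
  refine ⟨blkOf G z, ⟨⟨z, rfl⟩, (hm z).mpr rfl⟩, ?_⟩
  rintro b ⟨⟨w, rfl⟩, hw⟩
  rw [(hm w).mp hw]

theorem disjoint_iff {z w : V} (hne : z ≠ w) :
    Disjoint (blkOf G z) (blkOf G w) ↔ G.Adj z w := by
  refine ⟨fun hd => by_contra fun ha => ?_, fun ha => ?_⟩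
  · have hw : w ∈ far G z := mem_far.mpr ⟨Ne.symm hne, ha⟩
    have hpos : 0 < ((cocliques G).filter fun S => z ∈ S ∧ w ∈ S).card := by
      rw [(pair_data h hw).1]; omega
    obtain ⟨S, hS⟩ := Finset.card_pos.mp hpos
    rw [Finset.mem_filter] at hS
    exact Finset.disjoint_left.mp hd ((mem_blkOf (S := ⟨S, hS.1⟩)).mpr hS.2.1)
      (mem_blkOf.mpr hS.2.2)
  · rw [Finset.disjoint_left]
    intro S hz hw
    exact ((mem_cocliques h).mp S.2).2 z (mem_blkOf.mp hz) w (mem_blkOf.mp hw) ha

theorem blkOf_injective : Function.Injective (blkOf G) := by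
  intro z w e
  by_contra hne
  by_cases ha : G.Adj z w
  · have := (disjoint_iff h hne).mpr ha
    rw [e, disjoint_self] at this
    have hc := card_blkOf h w
    rw [this] at hc
    simp at hc
  · have hw : w ∈ far G z := mem_far.mpr ⟨Ne.symm hne, ha⟩
    have h2 := (pair_data h hw).1
    have h6 := card_through h z
    have : ((cocliques G).filter fun S => z ∈ S ∧ w ∈ S) = (cocliques G).filter (z ∈ ·) := by
      refine Finset.filter_congr fun S hS => ⟨fun hh => hh.1, fun hzS => ⟨hzS, ?_⟩⟩
      have : (⟨S, hS⟩ : Pts G) ∈ blkOf G w := e ▸ mem_blkOf.mpr hzS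
      exact mem_blkOf.mp this
    rw [this, h6] at h2
    omega

/-- The graph is the block graph of its system. -/
noncomputable def toBlockGraph : G ≃g blockGraph (blocks G) where
  toEquiv := Equiv.ofInjective (blkOf G) (blkOf_injective h)
  map_rel_iff' {z w} := by
    rw [Steiner22.blockGraph_adj (steiner h)]
    show Disjoint (blkOf G z) (blkOf G w) ↔ G.Adj z w
    by_cases e : z = w
    · subst e
      simp only [SimpleGraph.irrefl, iff_false, disjoint_self, Finset.bot_eq_empty]
      intro he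
      have hc := card_blkOf h z
      rw [he] at hc
      simp at hc
    · exact disjoint_iff h e

omit h

theorem unique {W : Type*} [Fintype W] [DecidableEq W] {H : SimpleGraph W} [DecidableRel H.Adj]
    (hG : G.IsSRGWith 77 16 0 4) (hH : H.IsSRGWith 77 16 0 4) : Nonempty (G ≃g H) := by
  obtain ⟨ι, hι⟩ := GolayUnique.Derived.exists_model22 (card_pts hG) (steiner hG)
  obtain ⟨κ, hκ⟩ := GolayUnique.Derived.exists_model22 (card_pts hH) (steiner hH)
  obtain ⟨f, hf⟩ := hι.iso hκ
  refine ⟨((toBlockGraph hG).trans ?_).trans (toBlockGraph hH).symm⟩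
  exact
    { toEquiv := Steiner22.blockEquiv f hf
      map_rel_iff' := by
        intro b c
        rw [Steiner22.blockGraph_adj (steiner hH), Steiner22.blockGraph_adj (steiner hG)]
        exact Finset.disjoint_map _ }

end Cfsg.Agent.Lib.Srg77
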